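import Groth.Agent.ThetaGa.Sections
import Groth.Agent.ThetaStack.Hartogs

/-!
No torsor on the chart has sections over the branches differing by `1 / π`.
-/

set_option autoImplicit false
set_option linter.unusedVariables false
set_option linter.unusedSectionVars false
set_option backward.isDefEq.respectTransparency false
set_option backward.isDefEq.respectTransparency.types false

universe u

open CategoryTheory CategoryTheory.Limits AlgebraicGeometry Opposite MonoidalCategory CartesianMonoidalCategory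
  MonObj GrpObj ThetaS FibCat

noncomputable section

namespace Groth.Agent.ThetaGa

theorem ι_appTop_injective {X : Scheme.{u}} [IsAffine X] {c : Γ(X, ⊤)}
    (hc : ∀ p, c * p = 0 → p = 0) : Function.Injective (X.basicOpen c).ι.appTop := by
  intro p q h
  refine ThetaStack.res_top_injective hc ?_
  have h' := congrArg (X.basicOpen c).topIso.hom h
  rw [Scheme.Opens.ι_appTop, ← CommRingCat.comp_apply, ← CommRingCat.comp_apply,
    Scheme.Opens.topIso_hom, ← Functor.map_comp] at h'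
  exact h'

theorem exists_mul_pow_ι {X : Scheme.{u}} [IsAffine X] (c : Γ(X, ⊤)) (f : Γ(X.basicOpen c, ⊤)) :
    ∃ (n : ℕ) (p : Γ(X, ⊤)), f * (X.basicOpen c).ι.appTop (c ^ n) = (X.basicOpen c).ι.appTop p := by
  obtain ⟨n, p, hp⟩ := ThetaStack.exists_mul_pow (le_refl (X.basicOpen c))
    ((X.basicOpen c).topIso.hom f)
  refine ⟨n, p, ?_⟩
  have hι : ∀ z, (X.basicOpen c).topIso.hom ((X.basicOpen c).ι.appTop z) =
      X.presheaf.map (homOfLE (show X.basicOpen c ≤ ⊤ from le_top)).op z := fun z => by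
    rw [Scheme.Opens.ι_appTop, ← CommRingCat.comp_apply, Scheme.Opens.topIso_hom, ← Functor.map_comp]
    rfl
  have hid : X.presheaf.map (homOfLE (le_refl (X.basicOpen c))).op
      ((X.basicOpen c).topIso.hom f) = (X.basicOpen c).topIso.hom f := by
    rw [show (homOfLE (le_refl (X.basicOpen c))).op = 𝟙 _ from rfl, CategoryTheory.Functor.map_id]
    rfl
  rw [hid, ← hι p, ← hι (c ^ n), ← map_mul] at hp
  exact ((ConcreteCategory.bijective_of_isIso (X.basicOpen c).topIso.hom).1 hp)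

variable {R : Type u} [CommRing R] [IsDomain R] (π : R) {S : Scheme.{u}}
  (hR : Spec (CommRingCat.of R) ⟶ S)

local notation "K" => Scheme.fppfPrecoverage

theorem exists_node (hπ : ¬ IsUnit π) :
    ∃ n : (STSch R π).left, n ∉ (STSch R π).left.basicOpen (stFn (sFn R π)) ∧
      n ∉ (STSch R π).left.basicOpen (stFn (tFn R π)) := by
  obtain ⟨m, hm, hπm⟩ := exists_max_ideal_of_mem_nonunits (show π ∈ nonunits R from hπ)
  let := Ideal.Quotient.field m
  let φ : STRing R π →ₐ[R] R ⧸ m := stPt 0 0 (by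
    rw [mul_zero]; exact (Ideal.Quotient.eq_zero_iff_mem.2 hπm).symm)
  refine ⟨(CoactBr.pt φ).left (IsLocalRing.closedPoint (R ⧸ m)), ?_, ?_⟩ <;>
    rw [stFn, ThetaStack.pt_mem_basicOpen_iff] <;> simp [φ]

set_option synthInstance.maxHeartbeats 400000 in
set_option maxHeartbeats 1600000 in
theorem not_splitData (hπ0 : π ≠ 0) (hπ : ¬ IsUnit π) (D : SplitData π hR) : False := by
  obtain ⟨n, hns, hnt⟩ := exists_node π hπ
  obtain ⟨R₀, hR₀, hloc⟩ := D.P.loc
  obtain ⟨hcov, hprop⟩ := GITLib.mem_fppfPrecoverage_out hR₀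
  let e₀ : (STSch R π).left ⟶ D.P.base.left := (eqToHom D.e.symm).left
  obtain ⟨W, g, w, hg, hw⟩ := hcov (e₀ n)
  obtain ⟨hfl, hlfp⟩ := hprop g hg
  obtain ⟨s, hs⟩ := hloc g hg
  let e₁ : D.P.base.left ⟶ (STSch R π).left := (eqToHom D.e).left
  have he₁ : e₁ (e₀ n) = n := by
    change (eqToHom D.e.symm ≫ eqToHom D.e).left n = n
    rw [eqToHom_trans, eqToHom_refl]; rfl
  have : IsIso e₁ := inferInstanceAs (IsIso ((Over.forget S).map (eqToHom D.e)))
  obtain ⟨V, hV, hwV, -⟩ := exists_isAffineOpen_mem_and_subset (x := w) (U := ⊤) trivial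
  have : IsAffine (V : Scheme.{u}) := hV
  let q₀ : (V : Scheme.{u}) ⟶ (STSch R π).left := V.ι ≫ g ≫ e₁
  have : Flat q₀ := inferInstance
  have : IsAffine (STSch R π).left := isAffine_Spec _
  let X' : Over S := Over.mk (q₀ ≫ ((Over.map hR).obj (STSch R π)).hom)
  have : IsAffine X'.left := inferInstanceAs (IsAffine (V : Scheme.{u}))
  let q : X' ⟶ (Over.map hR).obj (STSch R π) := Over.homMk q₀ rfl
  have hs' : s ≫ D.P.π.left = g := hs
  let σ : X' ⟶ D.P.P := Over.homMk (V.ι ≫ s) (by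
    change (V.ι ≫ s) ≫ D.P.P.hom = (V.ι ≫ g ≫ e₁) ≫ _
    rw [← Over.w D.P.π, Category.assoc, reassoc_of% hs', Category.assoc, Category.assoc]
    exact congrArg (V.ι ≫ g ≫ ·) (Over.w (eqToHom D.e)).symm)
  have hσ : σ ≫ D.P.π ≫ eqToHom D.e = q := Over.OverMorphism.ext (by
    change (V.ι ≫ s) ≫ D.P.π.left ≫ e₁ = _
    rw [Category.assoc, reassoc_of% hs']
    rfl)
  -- functions
  let as := q.left.appTop (stFn (sFn R π))
  let at' := q.left.appTop (stFn (tFn R π))
  let Ds := (STSch R π).left.basicOpen (stFn (sFn R π))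
  let Dt := (STSch R π).left.basicOpen (stFn (tFn R π))
  let XS : Over S := Over.mk ((X'.left.basicOpen as).ι ≫ X'.hom)
  let XT : Over S := Over.mk ((X'.left.basicOpen at').ι ≫ X'.hom)
  let XP : Over S := Over.mk ((X'.left.basicOpen as ⊓ X'.left.basicOpen at').ι ≫ X'.hom)
  let jS : XS ⟶ X' := Over.homMk (X'.left.basicOpen as).ι rfl
  let jT : XT ⟶ X' := Over.homMk (X'.left.basicOpen at').ι rfl
  let kS : XP ⟶ XS := Over.homMk (X'.left.homOfLE inf_le_left) (by
    change _ ≫ _ ≫ X'.hom = _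
    rw [← Category.assoc, Scheme.homOfLE_ι]; rfl)
  let kT : XP ⟶ XT := Over.homMk (X'.left.homOfLE inf_le_right) (by
    change _ ≫ _ ≫ X'.hom = _
    rw [← Category.assoc, Scheme.homOfLE_ι]; rfl)
  have hjk : kS ≫ jS = kT ≫ jT := Over.OverMorphism.ext
    ((Scheme.homOfLE_ι _ (inf_le_left :
        X'.left.basicOpen as ⊓ X'.left.basicOpen at' ≤ _)).trans
      (Scheme.homOfLE_ι _ (inf_le_right :
        X'.left.basicOpen as ⊓ X'.left.basicOpen at' ≤ _)).symm)
  have hlift : ∀ (O : (STSch R π).left.Opens) {Y : Over S} (y : Y ⟶ X'),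
      (∀ x, q.left (y.left x) ∈ O) →
      ∃ z : Y ⟶ (Over.map hR).obj (openPt π O).base,
        z ≫ (Over.map hR).map (openPt π O).sec.down = y ≫ q := fun O Y y hy => by
    have hl := IsOpenImmersion.lift_fac O.ι (y.left ≫ q.left) (by
      rintro _ ⟨x, rfl⟩
      rw [Scheme.Opens.range_ι]
      exact hy x)
    refine ⟨Over.homMk (IsOpenImmersion.lift O.ι (y.left ≫ q.left) _) ?_, Over.OverMorphism.ext hl⟩
    change _ ≫ (O.ι ≫ (STSch R π).hom) ≫ hR = _
    rw [← Category.assoc, ← Category.assoc, hl, ← Over.w y, ← Over.w q]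
    simp only [Category.assoc]
    rfl
  have hmS : ∀ x, q.left (jS.left x) ∈ Ds := fun x => by
    have h : jS.left x ∈ X'.left.basicOpen as := x.2
    rw [show X'.left.basicOpen as = q.left ⁻¹ᵁ Ds from (Scheme.preimage_basicOpen_top _ _).symm] at h
    exact h
  have hmT : ∀ x, q.left (jT.left x) ∈ Dt := fun x => by
    have h : jT.left x ∈ X'.left.basicOpen at' := x.2
    rw [show X'.left.basicOpen at' = q.left ⁻¹ᵁ Dt from (Scheme.preimage_basicOpen_top _ _).symm] at h
    exact h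
  obtain ⟨zS, hzS⟩ := hlift Ds jS hmS
  obtain ⟨zT, hzT⟩ := hlift Dt jT hmT
  obtain ⟨zP, hzP⟩ := hlift (Ds ⊓ Dt) (kS ≫ jS) fun x => ⟨hmS (kS.left x), by
    rw [hjk]; exact hmT (kT.left x)⟩
  have hmono : ∀ O : (STSch R π).left.Opens, Mono ((Over.map hR).map (openPt π O).sec.down) :=
    fun O => ⟨fun a b h => Over.OverMorphism.ext ((cancel_mono O.ι).1 (congrArg Over.Hom.left h :))⟩
  have hzS' : zP ≫ (Over.map hR).map (openLE π hR (inf_le_left : Ds ⊓ Dt ≤ Ds) le_sup_left).hom.base =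
      kS ≫ zS := by
    have := hmono Ds
    rw [← cancel_mono ((Over.map hR).map (openPt π Ds).sec.down), Category.assoc, Category.assoc,
      hzS, ← Category.assoc kS, ← hzP]
    refine congrArg (zP ≫ ·) (Over.OverMorphism.ext ?_)
    exact Scheme.homOfLE_ι _ (inf_le_left : Ds ⊓ Dt ≤ Ds)
  have hzT' : zP ≫ (Over.map hR).map (openLE π hR (inf_le_right : Ds ⊓ Dt ≤ Dt) le_sup_right).hom.base =
      kT ≫ zT := by
    have := hmono Dt
    rw [← cancel_mono ((Over.map hR).map (openPt π Dt).sec.down), Category.assoc, Category.assoc,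
      hzT, ← Category.assoc kT, ← hjk, ← hzP]
    refine congrArg (zP ≫ ·) (Over.OverMorphism.ext ?_)
    exact Scheme.homOfLE_ι _ (inf_le_right : Ds ⊓ Dt ≤ Dt)
  obtain ⟨gS, hgS⟩ := StFib.QuotTriv.exists_diff D.P (zS ≫ D.σS) (jS ≫ σ) (by
    rw [← cancel_mono (eqToHom D.e), Category.assoc, Category.assoc, Category.assoc, Category.assoc,
      D.hS, hzS, hσ])
  obtain ⟨gT, hgT⟩ := StFib.QuotTriv.exists_diff D.P (zT ≫ D.σT) (jT ≫ σ) (by
    rw [← cancel_mono (eqToHom D.e), Category.assoc, Category.assoc, Category.assoc, Category.assoc,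
      D.hT, hzT, hσ])
  letI : Monoid (XP ⟶ Red.Ga S) := Hom.monoid
  have hdiff : kT ≫ gT = (zP ≫ D.diff) * (kS ≫ gS) := by
    refine act_injective D.P.cart (y := kS ≫ jS ≫ σ) ?_
    have e1 : lift (kT ≫ gT) (kS ≫ jS ≫ σ) ≫ D.P.act.act = kT ≫ zT ≫ D.σT := by
      rw [← Category.assoc kS, hjk, Category.assoc, ← comp_lift, Category.assoc, hgT]
    have e2 : lift (kS ≫ gS) (kS ≫ jS ≫ σ) ≫ D.P.act.act = kS ≫ zS ≫ D.σS := by
      rw [← comp_lift, Category.assoc, hgS]
    rw [e1, StFib.QuotTriv.act_mul, e2, ← Category.assoc kS zS, ← hzS', Category.assoc,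
      ← comp_lift, Category.assoc, D.hrel]
    exact (Category.assoc _ _ _).symm.trans
      (((congrArg (· ≫ D.σT) hzT').symm).trans (Category.assoc _ _ _))
  -- the equation on functions
  let ρ : Γ(X'.left, ⊤) ⟶ Γ(XP.left, ⊤) := (X'.left.basicOpen as ⊓ X'.left.basicOpen at').ι.appTop
  let aπ := q.left.appTop (piT π (STSch R π))
  have hprod : as * at' = aπ := by
    change q.left.appTop _ * q.left.appTop _ = _
    rw [← map_mul]
    refine congrArg q.left.appTop ?_
    refine ((map_mul (Scheme.ΓSpecIso (CommRingCat.of (STRing R π))).inv.hom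
      (sFn R π) (tFn R π)).symm.trans ?_)
    rw [sFn_mul_tFn, piT, show (STSch R π).hom =
      Spec.map (CommRingCat.ofHom (algebraMap R (STRing R π))) from specOverSpec_over]
    exact congr($(Scheme.ΓSpecIso_inv_naturality (CommRingCat.ofHom (algebraMap R (STRing R π)))) π)
  have hπP : piU π zP = ρ aπ := by
    have h1 : piU π (zP ≫ (Over.map hR).map (openPt π (Ds ⊓ Dt)).sec.down) = piU π zP := by
      change zP.left.appTop ((openPt π (Ds ⊓ Dt)).sec.down.left.appTop (piT π (STSch R π))) = _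
      rw [piT_comp]; rfl
    rw [← h1, hzP]
    change ((kS ≫ jS).left ≫ q.left).appTop _ = _
    rw [Scheme.Hom.comp_appTop, CommRingCat.comp_apply,
      show (kS ≫ jS).left = (X'.left.basicOpen as ⊓ X'.left.basicOpen at').ι from
        Scheme.homOfLE_ι _ (inf_le_left :
          X'.left.basicOpen as ⊓ X'.left.basicOpen at' ≤ X'.left.basicOpen as)]
  have hga : ρ aπ * Red.gaFn (zP ≫ D.diff) = -1 := by
    rw [← hπP, RedPts.ga_comp]
    have h := congrArg zP.left.appTop D.hdiff
    rw [map_mul, map_neg, map_one, ← piU_comp, Category.comp_id] at h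
    exact h
  obtain ⟨NS, pS, hpS⟩ := exists_mul_pow_ι as (Red.gaFn gS)
  obtain ⟨NT, pT, hpT⟩ := exists_mul_pow_ι at' (Red.gaFn gT)
  have eS : kS.left.appTop (Red.gaFn gS) * ρ (as ^ NS) = ρ pS := by
    have := congrArg kS.left.appTop hpS
    rw [map_mul] at this
    have e : ∀ z, kS.left.appTop ((X'.left.basicOpen as).ι.appTop z) = ρ z := fun z =>
      congr($(congrArg Scheme.Hom.appTop (Scheme.homOfLE_ι _ (inf_le_left :
        X'.left.basicOpen as ⊓ X'.left.basicOpen at' ≤ X'.left.basicOpen as))) z)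
    exact (congrArg (_ * ·) (e _)).symm.trans (this.trans (e _))
  have eT : kT.left.appTop (Red.gaFn gT) * ρ (at' ^ NT) = ρ pT := by
    have := congrArg kT.left.appTop hpT
    rw [map_mul] at this
    have e : ∀ z, kT.left.appTop ((X'.left.basicOpen at').ι.appTop z) = ρ z := fun z =>
      congr($(congrArg Scheme.Hom.appTop (Scheme.homOfLE_ι _ (inf_le_right :
        X'.left.basicOpen as ⊓ X'.left.basicOpen at' ≤ X'.left.basicOpen at'))) z)
    exact (congrArg (_ * ·) (e _)).symm.trans (this.trans (e _))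
  have hd : kT.left.appTop (Red.gaFn gT) =
      Red.gaFn (zP ≫ D.diff) + kS.left.appTop (Red.gaFn gS) := by
    rw [← RedPts.ga_comp, ← RedPts.ga_comp, hdiff, RedPts.ga_mul]
  obtain ⟨N, hN1, hN2⟩ : ∃ N, NS ≤ N + 1 ∧ NT ≤ N + 1 := ⟨max NS NT, by omega, by omega⟩
  obtain ⟨cS, hcS⟩ := Nat.exists_eq_add_of_le hN1
  obtain ⟨cT, hcT⟩ := Nat.exists_eq_add_of_le hN2
  let PS := pS * as ^ cS
  let PT := pT * at' ^ cT
  have eS' : kS.left.appTop (Red.gaFn gS) * ρ as ^ (N + 1) = ρ PS := by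
    rw [map_mul, ← eS, hcS, pow_add, map_pow, map_pow, _root_.mul_assoc]
  have eT' : kT.left.appTop (Red.gaFn gT) * ρ at' ^ (N + 1) = ρ PT := by
    rw [map_mul, ← eT, hcT, pow_add, map_pow, map_pow, _root_.mul_assoc]
  -- injectivity
  let ψ : STRing R π →+* Γ(X'.left, ⊤) :=
    (q.left.appTop.hom).comp (Scheme.ΓSpecIso (CommRingCat.of (STRing R π))).inv.hom
  have : IsAffine ((Over.map hR).obj (STSch R π)).left := isAffine_Spec _
  have : Flat q.left := (inferInstance : Flat q₀)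
  algebraize [ψ]
  have : Module.Flat (STRing R π) Γ(X'.left, ⊤) :=
    RingHom.Flat.comp (RingHom.Flat.of_bijective
      (ConcreteCategory.bijective_of_isIso (Scheme.ΓSpecIso (CommRingCat.of (STRing R π))).inv))
      (Scheme.Hom.flat_appTop q.left)
  have hnzd : ∀ z : Γ(X'.left, ⊤), aπ * z = 0 → z = 0 := by
    intro z hz
    have hreg : IsSMulRegular (STRing R π) (sFn R π * tFn R π) := fun x y hxy => sub_eq_zero.1
      (ThetaStack.tFn_nzd hπ0 _ (ThetaStack.sFn_nzd hπ0 _ (by
        rw [← _root_.mul_assoc, mul_sub]; exact sub_eq_zero.2 hxy)))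
    have hreg' := hreg.of_flat (S := Γ(X'.left, ⊤))
    refine hreg' ?_
    change ψ (sFn R π * tFn R π) • z = ψ (sFn R π * tFn R π) • (0 : Γ(X'.left, ⊤))
    rw [smul_eq_mul, smul_eq_mul, mul_zero, map_mul]
    exact (congrArg (· * z) hprod).trans hz
  have hinj : ∀ z, ρ z = 0 → z = 0 := by
    intro z hz
    have key : Function.Injective (X'.left.basicOpen aπ).ι.appTop :=
      ι_appTop_injective hnzd
    have e : X'.left.basicOpen aπ ≤ X'.left.basicOpen as ⊓ X'.left.basicOpen at' := by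
      rw [← hprod, Scheme.basicOpen_mul]
    refine key ?_
    have h2 := congrArg (X'.left.homOfLE e).appTop hz
    rw [map_zero]
    exact (congr($(congrArg Scheme.Hom.appTop (Scheme.homOfLE_ι _ e)) z)).symm.trans
      (h2.trans (map_zero _))
  have key : aπ * (PT * as ^ (N + 1) - PS * at' ^ (N + 1)) + aπ ^ (N + 1) = 0 := by
    refine hinj _ ?_
    rw [← hprod, mul_pow]
    simp only [map_add, map_mul, map_sub, map_pow]
    rw [← eS', ← eT', hd]
    have : ρ as * ρ at' = ρ aπ := by rw [← map_mul, hprod]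
    linear_combination (ρ as ^ (N + 1) * ρ at' ^ (N + 1)) * hga +
      (ρ as ^ (N + 1) * ρ at' ^ (N + 1) * Red.gaFn (zP ≫ D.diff)) * this
  have key' : aπ ^ N = PS * at' ^ (N + 1) - PT * as ^ (N + 1) := by
    rw [← sub_eq_zero]
    refine hnzd _ ?_
    linear_combination key
  have hone := one_mem_of_flat π hπ0 (A' := Γ(X'.left, ⊤)) N (-PT) PS (by
    change ψ (algebraMap R _ (π ^ N)) = -PT * ψ (_ ^ _) + PS * ψ (_ ^ _)
    rw [map_pow, map_pow, map_pow, map_pow, ← sFn_mul_tFn, map_mul]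
    have ha : ψ (sFn R π) = as := rfl
    have hb : ψ (tFn R π) = at' := rfl
    rw [ha, hb, hprod]
    linear_combination key')
  rw [Ideal.map_span, Set.image_pair, Ideal.mem_span_pair] at hone
  obtain ⟨c₁, c₂, hc⟩ := hone
  have hmem : (⟨w, hwV⟩ : (V : Scheme.{u})) ∈ X'.left.basicOpen as ⊔ X'.left.basicOpen at' := by
    have h1 : (⟨w, hwV⟩ : (V : Scheme.{u})) ∈ X'.left.basicOpen (1 : Γ(X'.left, ⊤)) := by
      rw [Scheme.basicOpen_of_isUnit _ isUnit_one]; trivial
    rw [← hc] at h1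
    rcases Scheme.basicOpen_add_le _ _ _ h1 with h | h
    · rw [Scheme.basicOpen_mul] at h; exact Or.inl h.2
    · rw [Scheme.basicOpen_mul] at h; exact Or.inr h.2
  have hqw : q.left ⟨w, hwV⟩ = n := by
    change e₁ (g w) = n
    rw [hw, he₁]
  rcases hmem with h | h
  · apply hns
    rw [← hqw]
    rw [show X'.left.basicOpen as = q.left ⁻¹ᵁ Ds from (Scheme.preimage_basicOpen_top _ _).symm] at h
    exact h
  · apply hnt
    rw [← hqw]
    rw [show X'.left.basicOpen at' = q.left ⁻¹ᵁ Dt from (Scheme.preimage_basicOpen_top _ _).symm] at h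
    exact h

end Groth.Agent.ThetaGa
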