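import Groth.Prelude.Def_ThetaS
import Mathlib.RingTheory.Flat.EquationalCriterion
import Mathlib.AlgebraicGeometry.AffineScheme

/-!
The class of `1 / π` on the punctured curve `s t = π` does not vanish after a flat extension through
the node; gluing of solutions of linear equations on two basic opens.
-/

set_option autoImplicit false
set_option linter.unusedVariables false
set_option linter.unusedSectionVars false
set_option linter.unusedSimpArgs false
set_option backward.isDefEq.respectTransparency false
set_option backward.isDefEq.respectTransparency.types false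

universe u

open CategoryTheory AlgebraicGeometry Opposite TopologicalSpace ThetaS

namespace Groth.Agent.ThetaGa

section Alg

open MvPolynomial

variable {R : Type u} [CommRing R] [IsDomain R] (π : R)

/-- The weight zero part, with `s t` evaluated at `π`. -/
noncomputable def wtZero : MvPolynomial (Fin 2) R →ₗ[R] R :=
  Finsupp.linearCombination R (fun m : Fin 2 →₀ ℕ => if m 0 = m 1 then π ^ m 0 else 0) ∘ₗ
    (AddMonoidAlgebra.coeffLinearEquiv R).toLinearMap

theorem wtZero_monomial (m : Fin 2 →₀ ℕ) (c : R) :
    wtZero π (monomial m c) = c * if m 0 = m 1 then π ^ m 0 else 0 := by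
  simp only [wtZero, LinearMap.coe_comp, Function.comp_apply]
  erw [Finsupp.linearCombination_single]
  rfl

theorem wtZero_rel (p : MvPolynomial (Fin 2) R) : wtZero π ((X 0 * X 1 - C π) * p) = 0 := by
  induction p using MvPolynomial.induction_on' with
  | monomial m c =>
    rw [sub_mul, map_sub, X, X, monomial_mul, monomial_mul, C_mul_monomial, wtZero_monomial,
      wtZero_monomial, sub_eq_zero]
    simp only [Finsupp.add_apply]
    simp [Finsupp.single_apply]
    by_cases h : m 0 = m 1
    · simp [h, pow_add]; ring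
    · simp [h]
  | add p q hp hq => rw [mul_add, map_add, hp, hq, add_zero]

theorem wtZero_pow_dvd (i : Fin 2) (n : ℕ) (p : MvPolynomial (Fin 2) R) :
    π ^ n ∣ wtZero π (X i ^ n * p) := by
  induction p using MvPolynomial.induction_on' with
  | monomial m c =>
    rw [X_pow_eq_monomial, monomial_mul, wtZero_monomial]
    simp only [Finsupp.add_apply]
    split
    · rename_i h
      refine (pow_dvd_pow π ?_).mul_left _
      fin_cases i <;> simp [Finsupp.single_apply] at h ⊢ <;> omega
    · simp
  | add p q hp hq => rw [mul_add, map_add]; exact dvd_add hp hq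

theorem pow_dvd_of_mem (n : ℕ) {r : R}
    (h : algebraMap R (STRing R π) r ∈ Ideal.span {sFn R π ^ n, tFn R π ^ n}) : π ^ n ∣ r := by
  obtain ⟨a, b, hab⟩ := Ideal.mem_span_pair.1 h
  obtain ⟨a, rfl⟩ := Ideal.Quotient.mk_surjective a
  obtain ⟨b, rfl⟩ := Ideal.Quotient.mk_surjective b
  rw [IsScalarTower.algebraMap_apply R (MvPolynomial (Fin 2) R) (STRing R π),
    Ideal.Quotient.algebraMap_eq, MvPolynomial.algebraMap_eq, ← map_pow, ← map_pow, ← map_mul,
    ← map_mul, ← map_add, Ideal.Quotient.mk_eq_mk_iff_sub_mem, Ideal.mem_span_singleton] at hab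
  obtain ⟨q, hq⟩ := hab
  have e := congrArg (wtZero π) hq
  rw [map_sub, map_add, wtZero_rel, sub_eq_zero, C_apply, wtZero_monomial, mul_comm a, mul_comm b] at e
  simp at e
  rw [← e]
  exact dvd_add (wtZero_pow_dvd π 0 n a) (wtZero_pow_dvd π 1 n b)

/-- In a flat extension, `π ^ m` lies in `(s ^ (m+1), t ^ (m+1))` only away from the node. -/
theorem one_mem_of_flat (hπ : π ≠ 0) {A' : Type u} [CommRing A'] [Algebra (STRing R π) A']
    [Module.Flat (STRing R π) A'] (m : ℕ) (p q : A')
    (h : algebraMap (STRing R π) A' (algebraMap R (STRing R π) (π ^ m)) =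
      p * algebraMap _ A' (sFn R π ^ (m + 1)) + q * algebraMap _ A' (tFn R π ^ (m + 1))) :
    (1 : A') ∈ (Ideal.span {sFn R π, tFn R π}).map (algebraMap (STRing R π) A') := by
  let e := algebraMap R (STRing R π) (π ^ m)
  have hrel : ∑ i, (![e, sFn R π ^ (m + 1), tFn R π ^ (m + 1)] : Fin 3 → STRing R π) i •
      (![1, -p, -q] : Fin 3 → A') i = 0 := by
    simp only [Fin.sum_univ_three, Algebra.smul_def, e, Matrix.cons_val_zero, Matrix.cons_val_one,
      Matrix.cons_val_two, Matrix.tail_cons, Matrix.head_cons]
    rw [h]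
    ring
  obtain ⟨k, a, y, hx, hf⟩ := Module.Flat.isTrivialRelation_of_sum_smul_eq_zero (R := STRing R π)
    (M := A') (f := ![e, sFn R π ^ (m + 1), tFn R π ^ (m + 1)]) (x := ![1, -p, -q]) (by exact hrel)
  have h1 : (1 : A') = ∑ j, a 0 j • y j := hx 0
  rw [h1]
  refine Ideal.sum_mem _ fun j _ => ?_
  rw [Algebra.smul_def]
  refine Ideal.mul_mem_right _ _ (Ideal.mem_map_of_mem _ ?_)
  have hj := hf j
  simp [Fin.sum_univ_three] at hj
  obtain ⟨g, hg⟩ := Ideal.Quotient.mk_surjective (a 0 j)
  -- the constant term of `g`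
  have hdec : ∀ g : MvPolynomial (Fin 2) R, ∃ u v : MvPolynomial (Fin 2) R,
      g = C (constantCoeff g) + X 0 * u + X 1 * v := by
    intro g
    induction g using MvPolynomial.induction_on with
    | C r => exact ⟨0, 0, by simp⟩
    | add g g' hg hg' =>
      obtain ⟨u, v, hu⟩ := hg
      obtain ⟨u', v', hu'⟩ := hg'
      exact ⟨u + u', v + v', by rw [map_add, map_add]; linear_combination hu + hu'⟩
    | mul_X g i hg =>
      fin_cases i
      · exact ⟨g, 0, by simp; ring⟩
      · exact ⟨0, g, by simp; ring⟩
  obtain ⟨u, v, huv⟩ := hdec g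
  have ha : a 0 j = algebraMap R (STRing R π) (constantCoeff g) +
      sFn R π * Ideal.Quotient.mk _ u + tFn R π * Ideal.Quotient.mk _ v := by
    rw [← hg]
    conv_lhs => rw [huv]
    rw [map_add, map_add, map_mul, map_mul]
    rfl
  have hpm : algebraMap R (STRing R π) π = sFn R π * tFn R π := (sFn_mul_tFn R π).symm
  have hd : π ^ (m + 1) ∣ π ^ m * constantCoeff g := by
    refine pow_dvd_of_mem π (m + 1) (Ideal.mem_span_pair.2
      ⟨-(a 1 j) - tFn R π ^ m * Ideal.Quotient.mk _ u, -(a 2 j) - sFn R π ^ m * Ideal.Quotient.mk _ v, ?_⟩)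
    have hj' : e * a 0 j + sFn R π ^ (m + 1) * a 1 j + tFn R π ^ (m + 1) * a 2 j = 0 := hj
    rw [ha] at hj'
    simp only [e, map_pow, hpm] at hj'
    rw [map_mul, map_pow, hpm]
    linear_combination (-1 : STRing R π) * hj'
  obtain ⟨c, hc⟩ := hd
  have : constantCoeff g = π * c := mul_left_cancel₀ (pow_ne_zero m hπ) (by rw [hc]; ring)
  rw [ha, this, map_mul, hpm]
  refine Ideal.mem_span_pair.2 ⟨tFn R π * algebraMap R _ c + Ideal.Quotient.mk _ u,
    Ideal.Quotient.mk _ v, by ring⟩

end Alg

/-- Compatible solutions of linear equations on two basic opens glue uniquely. -/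
theorem existsUnique_div {X : Scheme.{u}} {u v p q : Γ(X, ⊤)}
    (hc : X.basicOpen u ⊔ X.basicOpen v = ⊤) (h : p * v = q * u) :
    ∃! a : Γ(X, ⊤), a * u = p ∧ a * v = q := by
  let res : ∀ U : X.Opens, Γ(X, ⊤) →+* Γ(X, U) := fun U => (X.presheaf.map (homOfLE le_top).op).hom
  have hres : ∀ {U V : X.Opens} (k : V ≤ U) (z : Γ(X, ⊤)),
      X.presheaf.map (homOfLE k).op (res U z) = res V z := fun {U V} k z => by
    change X.presheaf.map _ (X.presheaf.map _ z) = X.presheaf.map _ z
    rw [← CommRingCat.comp_apply, ← Functor.map_comp]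
    rfl
  have hu : IsUnit (res (X.basicOpen u) u) := RingedSpace.isUnit_res_basicOpen _ u
  have hv : IsUnit (res (X.basicOpen v) v) := RingedSpace.isUnit_res_basicOpen _ v
  let U : Bool → X.Opens := fun i => if i then X.basicOpen u else X.basicOpen v
  let su : Γ(X, X.basicOpen u) := res (X.basicOpen u) p * ↑hu.unit⁻¹
  let sv : Γ(X, X.basicOpen v) := res (X.basicOpen v) q * ↑hv.unit⁻¹
  let sf : ∀ i : Bool, Γ(X, U i) := fun i => match i with
    | true => su
    | false => sv
  obtain ⟨a₀, ha, hau⟩ := TopCat.Sheaf.existsUnique_gluing' X.sheaf U ⊤ (fun i => homOfLE le_top)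
    (by
      intro x hx
      rw [← hc] at hx
      rcases hx with hx | hx
      · exact Opens.mem_iSup.2 ⟨true, hx⟩
      · exact Opens.mem_iSup.2 ⟨false, hx⟩) sf (by
      have key : X.presheaf.map (homOfLE (inf_le_left (b := U false))).op (sf true) =
          X.presheaf.map (homOfLE (inf_le_right (a := U true))).op (sf false) := by
        have hu' : IsUnit (res (U true ⊓ U false) u) := by
          rw [← hres (inf_le_left (a := U true)) u]
          exact hu.map _
        have hv' : IsUnit (res (U true ⊓ U false) v) := by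
          rw [← hres (inf_le_right (b := U false)) v]
          exact hv.map _
        refine (hu'.mul hv').mul_right_cancel ?_
        have e1 : sf true * res (U true) u = res (U true) p := by
          change su * res (X.basicOpen u) u = res (X.basicOpen u) p
          simp only [su]
          rw [mul_assoc, IsUnit.val_inv_mul, mul_one]
        have e2 : sf false * res (U false) v = res (U false) q := by
          change sv * res (X.basicOpen v) v = res (X.basicOpen v) q
          simp only [sv]
          rw [mul_assoc, IsUnit.val_inv_mul, mul_one]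
        have e1' := congrArg (X.presheaf.map (homOfLE (inf_le_left (b := U false))).op) e1
        have e2' := congrArg (X.presheaf.map (homOfLE (inf_le_right (a := U true))).op) e2
        rw [map_mul, hres, hres] at e1' e2'
        rw [← mul_assoc, e1', mul_left_comm, e2', ← map_mul, ← map_mul, h, mul_comm u q]
      intro i j
      cases i <;> cases j
      · rfl
      · have hsw : U false ⊓ U true ≤ U true ⊓ U false := inf_comm (U false) (U true) ▸ le_rfl
        have := congrArg (X.presheaf.map (homOfLE hsw).op) key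
        rw [← CommRingCat.comp_apply, ← CommRingCat.comp_apply, ← Functor.map_comp,
          ← Functor.map_comp] at this
        exact this.symm
      · exact key
      · rfl)
  let a : Γ(X, ⊤) := a₀
  refine ⟨a, ⟨?_, ?_⟩, fun b hb => hau b fun i => ?_⟩
  · refine TopCat.Sheaf.eq_of_locally_eq₂ X.sheaf (homOfLE le_top) (homOfLE le_top) (le_of_eq hc.symm)
      _ _ ?_ ?_
    · change res (X.basicOpen u) (a * u) = res _ p
      rw [map_mul, show res (X.basicOpen u) a = res (X.basicOpen u) p * ↑hu.unit⁻¹ from ha true,
        mul_assoc, IsUnit.val_inv_mul, mul_one]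
    · change res (X.basicOpen v) (a * u) = res _ p
      refine hv.mul_right_cancel ?_
      rw [map_mul, show res (X.basicOpen v) a = res (X.basicOpen v) q * ↑hv.unit⁻¹ from ha false,
        mul_assoc, mul_assoc, mul_comm (res _ u), ← mul_assoc (↑hv.unit⁻¹ : Γ(X, X.basicOpen v)),
        IsUnit.val_inv_mul, one_mul, ← map_mul, ← map_mul, h]
  · refine TopCat.Sheaf.eq_of_locally_eq₂ X.sheaf (homOfLE le_top) (homOfLE le_top) (le_of_eq hc.symm)
      _ _ ?_ ?_
    · change res (X.basicOpen u) (a * v) = res _ q
      refine hu.mul_right_cancel ?_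
      rw [map_mul, show res (X.basicOpen u) a = res (X.basicOpen u) p * ↑hu.unit⁻¹ from ha true,
        mul_assoc, mul_assoc, mul_comm (res _ v), ← mul_assoc (↑hu.unit⁻¹ : Γ(X, X.basicOpen u)),
        IsUnit.val_inv_mul, one_mul, ← map_mul, ← map_mul, h]
    · change res (X.basicOpen v) (a * v) = res _ q
      rw [map_mul, show res (X.basicOpen v) a = res (X.basicOpen v) q * ↑hv.unit⁻¹ from ha false,
        mul_assoc, IsUnit.val_inv_mul, mul_one]
  · cases i
    · change res (X.basicOpen v) b = sv
      simp only [sv]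
      rw [← hb.2, map_mul, mul_assoc, IsUnit.mul_val_inv, mul_one]
    · change res (X.basicOpen u) b = su
      simp only [su]
      rw [← hb.1, map_mul, mul_assoc, IsUnit.mul_val_inv, mul_one]

end Groth.Agent.ThetaGa
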