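import Groth.Agent.ThetaGa.Pts
import Groth.Agent.ThetaStack.Weights
import Groth.Agent.GITLib.FppfQuot

/-!
The additive torsor over the punctured two-branched stack.
-/

set_option autoImplicit false
set_option linter.unusedVariables false
set_option linter.unusedSectionVars false
set_option backward.isDefEq.respectTransparency false
set_option backward.isDefEq.respectTransparency.types false

universe u

open CategoryTheory CategoryTheory.Limits AlgebraicGeometry Opposite MonoidalCategory CartesianMonoidalCategory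
  MonObj GrpObj ThetaS FibCat

noncomputable section

namespace Groth.Agent.ThetaGa

variable {R : Type u} [CommRing R] {π : R}

local notation "K" => Scheme.fppfPrecoverage

/-- Stability of the two branches. -/
theorem st_invariant_branch (π : R) (f : STRing R π) (hf : f = sFn R π ∨ f = tFn R π)
    (p : (ThetaS.Gm R ⊗ STSch R π).left) :
    (stAction R π).act.left p ∈ (STSch R π).left.basicOpen (stFn f) ↔
      (snd (ThetaS.Gm R) (STSch R π)).left p ∈ (STSch R π).left.basicOpen (stFn f) := by
  obtain ⟨K', _, _, lam, φ, x, rfl⟩ := ThetaStack.exists_pts (STRing R π) p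
  rw [(ThetaStack.act_snd_pt (stAction R π) lam φ x).1,
    (ThetaStack.act_snd_pt (stAction R π) lam φ x).2]
  obtain ⟨a, b, hab, rfl⟩ : ∃ a b, ∃ hab : a * b = algebraMap R K' π, stPt a b hab = φ :=
    ⟨φ (sFn R π), φ (tFn R π), by rw [← map_mul, sFn_mul_tFn, AlgHom.commutes],
      stRing_algHom_ext (stPt_sFn _ _ _) (stPt_tFn _ _ _)⟩
  rw [stAction_pt]
  rcases hf with rfl | rfl <;>
    rw [ThetaStack.pt_mem_basicOpen_iff, ThetaStack.pt_mem_basicOpen_iff] <;>
    simp [ThetaStack.lam_ne_zero lam]

variable (A : (STR K R π).obj)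

/-- The points of the base over which the torsor maps into `D(f)`. -/
def branchSet (f : STRing R π) : Set A.base.left :=
  {τ | ∀ p, A.π.left p = τ → A.φ.left p ∈ (STSch R π).left.basicOpen (stFn f)}

theorem exists_over (τ : A.base.left) : ∃ p, A.π.left p = τ := by
  obtain ⟨R₀, hR₀, hs⟩ := A.loc
  obtain ⟨hcov, -⟩ := GITLib.mem_fppfPrecoverage_out hR₀
  obtain ⟨W, g, w, hg, hw⟩ := hcov τ
  obtain ⟨s, hs⟩ := hs g hg
  exact ⟨s w, (congrArg (fun t : W ⟶ A.base.left => t w) hs :).trans hw⟩

theorem mem_branchSet_iff {f : STRing R π} (hf : f = sFn R π ∨ f = tFn R π) (p : A.P.left) :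
    A.π.left p ∈ branchSet A f ↔ A.φ.left p ∈ (STSch R π).left.basicOpen (stFn f) := by
  refine ⟨fun h => h p rfl, fun hp q hq => ?_⟩
  obtain ⟨r, hr1, hr2⟩ := Scheme.exists_preimage_of_isPullback
    (A.cart.map (Over.forget (Spec (CommRingCat.of R)))) p q hq.symm
  have e1 : A.φ.left p = (stAction R π).act.left ((ThetaS.Gm R ◁ A.φ).left r) := by
    rw [← hr1]
    exact congrArg (fun t : ThetaS.Gm R ⊗ A.P ⟶ STSch R π => t.left r) A.eqv
  have e2 : A.φ.left q = (snd (ThetaS.Gm R) (STSch R π)).left ((ThetaS.Gm R ◁ A.φ).left r) := by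
    rw [← hr2]
    exact (congrArg (fun t : ThetaS.Gm R ⊗ A.P ⟶ STSch R π => t.left r)
      (whiskerLeft_snd (ThetaS.Gm R) A.φ)).symm
  rw [e1, st_invariant_branch π f hf] at hp
  rwa [e2]

theorem isOpen_branchSet {f : STRing R π} (hf : f = sFn R π ∨ f = tFn R π) :
    IsOpen (branchSet A f) := by
  obtain ⟨R₀, hR₀, hs⟩ := A.loc
  obtain ⟨hcov, hP⟩ := GITLib.mem_fppfPrecoverage_out hR₀
  rw [isOpen_iff_forall_mem_open]
  intro τ hτ
  obtain ⟨W, g, w, hg, hw⟩ := hcov τ
  obtain ⟨hfl, hlfp⟩ := hP g hg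
  obtain ⟨s, hs⟩ := hs g hg
  have hgs : ∀ v, A.π.left (s v) = g v := fun v => (congrArg (fun t : W ⟶ A.base.left => t v) hs :)
  let O : W.Opens := (s ≫ A.φ.left) ⁻¹ᵁ (STSch R π).left.basicOpen (stFn f)
  refine ⟨g '' O, ?_, g.isOpenMap _ O.2, ⟨w, hτ (s w) ((hgs w).trans hw), hw⟩⟩
  rintro _ ⟨v, hv, rfl⟩
  rw [← hgs v]
  exact (mem_branchSet_iff A hf (s v)).2 hv

/-- The branch where `s` is invertible. -/
def brS : A.base.left.Opens := ⟨branchSet A (sFn R π), isOpen_branchSet A (Or.inl rfl)⟩

/-- The branch where `t` is invertible. -/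
def brT : A.base.left.Opens := ⟨branchSet A (tFn R π), isOpen_branchSet A (Or.inr rfl)⟩

theorem isBranched (hA : MissesNode A) : IsBranched π A.base (brS A) (brT A) := by
  refine ⟨fun τ _ => ?_, fun τ hτ => ?_⟩
  · obtain ⟨p, rfl⟩ := exists_over A τ
    have hp : p ∈ A.P.left.basicOpen (A.φ.left.appTop (stFn (sFn R π))) ⊔
        A.P.left.basicOpen (A.φ.left.appTop (stFn (tFn R π))) := by
      rw [hA]; trivial
    rw [← Scheme.preimage_basicOpen_top, ← Scheme.preimage_basicOpen_top] at hp
    rcases hp with h | h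
    · exact Or.inl ((mem_branchSet_iff A (Or.inl rfl) p).2 h)
    · exact Or.inr ((mem_branchSet_iff A (Or.inr rfl) p).2 h)
  · obtain ⟨p, rfl⟩ := exists_over A τ
    have h1 := hτ.1 p rfl
    have h2 := hτ.2 p rfl
    have h : A.φ.left p ∈ (STSch R π).left.basicOpen (piT π (STSch R π)) := by
      have e : stFn (sFn R π) * stFn (tFn R π) = piT π (STSch R π) := by
        refine ((map_mul (Scheme.ΓSpecIso (CommRingCat.of (STRing R π))).inv.hom
          (sFn R π) (tFn R π)).symm.trans ?_)
        rw [sFn_mul_tFn, piT, show (STSch R π).hom =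
          Spec.map (CommRingCat.ofHom (algebraMap R (STRing R π))) from specOverSpec_over]
        exact congr($(Scheme.ΓSpecIso_inv_naturality
          (CommRingCat.ofHom (algebraMap R (STRing R π)))) π)
      rw [← e, Scheme.basicOpen_mul]
      exact ⟨h1, h2⟩
    change A.π.left p ∈ A.base.left.basicOpen (piT π A.base)
    have h3 : p ∈ A.P.left.basicOpen (piT π A.P) := by
      rw [← piT_comp π A.φ, ← Scheme.preimage_basicOpen_top]; exact h
    rw [← piT_comp π A.π, ← Scheme.preimage_basicOpen_top] at h3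
    exact h3

variable {A} {B : (STR K R π).obj}

theorem preimage_branch (k : A ⟶ B) {f : STRing R π} (hf : f = sFn R π ∨ f = tFn R π)
    (τ : A.base.left) : k.base.left τ ∈ branchSet B f ↔ τ ∈ branchSet A f := by
  obtain ⟨p, rfl⟩ := exists_over A τ
  have e : k.base.left (A.π.left p) = B.π.left (k.top.left p) :=
    (congrArg (fun t : A.P ⟶ B.base => t.left p) k.cart.w :).symm
  rw [e, mem_branchSet_iff B hf, mem_branchSet_iff A hf]
  rw [show A.φ.left p = B.φ.left (k.top.left p) from
    (congrArg (fun t : A.P ⟶ STSch R π => t.left p) k.wφ :).symm]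

variable {S : Scheme.{u}} (hR : Spec (CommRingCat.of R) ⟶ S)

/-- The torsor on an object of the punctured stack. -/
def torOf (a : (stPunc K R π hR).obj) :
    AlgSt.QuotObj K (Red.Ga S) (AlgSt.trivAction (Red.Ga S)) :=
  torsorObj (hR := hR) (isBranched a.obj a.property)

/-- Its total space. -/
abbrev totOf (a : (stPunc K R π hR).obj) : Over S :=
  tot π hR a.obj.base (brS a.obj) (brT a.obj)

/-- Its projection. -/
abbrev projOf (a : (stPunc K R π hR).obj) : totOf hR a ⟶ (Over.map hR).obj a.obj.base :=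
  proj π hR a.obj.base (brS a.obj) (brT a.obj)

theorem exists_top {a b : (stPunc K R π hR).obj} (k : a ⟶ b) {U : Over S}
    (g : U ⟶ (Over.map hR).obj a.obj.base) (y : U ⟶ totOf hR b)
    (hy : y ≫ projOf hR b = g ≫ (Over.map hR).map k.hom.base) :
    ∃ x : U ⟶ totOf hR a, x ≫ projOf hR a = g ∧ zc x = zc y ∧ wc x = wc y := by
  have hp : piU π (y ≫ projOf hR b) = piU π g := by
    rw [hy, piU_comp]
    change g.left.appTop (k.hom.base.left.appTop (piT π b.obj.base)) = _
    rw [piT_comp]; rfl
  obtain ⟨h1, h2⟩ := ok_point (isBranched b.obj b.property).inter y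
  rw [hp] at h1 h2
  refine exists_point g (zc y) (wc y) (by rw [← hp]; exact rel_point y) (fun τ hτ => h1 ?_)
    (fun τ hτ => h2 ?_) (isBranched a.obj a.property).cover
  · rw [hy]; exact (preimage_branch k.hom (Or.inl rfl) (g.left τ)).2 hτ
  · rw [hy]; exact (preimage_branch k.hom (Or.inr rfl) (g.left τ)).2 hτ

theorem exists_topMap {a b : (stPunc K R π hR).obj} (k : a ⟶ b) :
    ∃ t : totOf hR a ⟶ totOf hR b,
      t ≫ projOf hR b = projOf hR a ≫ (Over.map hR).map k.hom.base ∧
        zc t = zc (𝟙 (totOf hR a)) ∧ wc t = wc (𝟙 (totOf hR a)) := by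
  let g := projOf hR a ≫ (Over.map hR).map k.hom.base
  have hp : piU π g = piU π (𝟙 (totOf hR a) ≫ projOf hR a) := by
    rw [Category.id_comp, piU_comp]
    change (projOf hR a).left.appTop (k.hom.base.left.appTop (piT π b.obj.base)) = _
    rw [piT_comp]; rfl
  obtain ⟨h1, h2⟩ := ok_point (isBranched a.obj a.property).inter (𝟙 (totOf hR a))
  refine exists_point g _ _ (by rw [hp]; exact rel_point _) (fun τ hτ => ?_) (fun τ hτ => ?_)
    (isBranched b.obj b.property).cover
  · rw [hp]; refine h1 ?_
    rw [Category.id_comp]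
    exact (preimage_branch k.hom (Or.inl rfl) ((projOf hR a).left τ)).1 hτ
  · rw [hp]; refine h2 ?_
    rw [Category.id_comp]
    exact (preimage_branch k.hom (Or.inr rfl) ((projOf hR a).left τ)).1 hτ

/-- The map of total spaces of a morphism. -/
def topMap {a b : (stPunc K R π hR).obj} (k : a ⟶ b) : totOf hR a ⟶ totOf hR b :=
  (exists_topMap hR k).choose

theorem topMap_spec {a b : (stPunc K R π hR).obj} (k : a ⟶ b) {U : Over S} (x : U ⟶ totOf hR a) :
    (x ≫ topMap hR k) ≫ projOf hR b = x ≫ projOf hR a ≫ (Over.map hR).map k.hom.base ∧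
      zc (x ≫ topMap hR k) = zc x ∧ wc (x ≫ topMap hR k) = wc x := by
  obtain ⟨h1, h2, h3⟩ := (exists_topMap hR k).choose_spec
  refine ⟨by rw [Category.assoc, topMap, h1], ?_, ?_⟩
  · rw [zc_comp, topMap, h2, ← zc_comp, Category.comp_id]
  · rw [wc_comp, topMap, h3, ← wc_comp, Category.comp_id]

/-- The morphism of torsors of a morphism. -/
def homOf {a b : (stPunc K R π hR).obj} (k : a ⟶ b) : torOf hR a ⟶ torOf hR b where
  base := (Over.map hR).map k.hom.base
  top := topMap hR k
  eqv := by
    let L := 𝟙 (Red.Ga S ⊗ totOf hR a)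
    have e : ∀ {T : Over S} (q : Red.Ga S ⊗ totOf hR a ⟶ T), q = lift (fst _ _) (snd _ _) ≫ q := by
      intro T q; rw [lift_fst_snd, Category.id_comp]
    change actHom (isBranched a.obj a.property) ≫ topMap hR k =
      (Red.Ga S ◁ topMap hR k) ≫ actHom (isBranched b.obj b.property)
    have e2 : Red.Ga S ◁ topMap hR k = lift (fst _ _) (snd _ _ ≫ topMap hR k) := by
      apply CartesianMonoidalCategory.hom_ext <;> simp
    rw [e2, e (actHom (isBranched a.obj a.property))]
    obtain ⟨a1, a2, a3⟩ := lift_actHom (isBranched a.obj a.property) (hR := hR)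
      (fst (Red.Ga S) (totOf hR a)) (snd _ _)
    obtain ⟨t1, t2, t3⟩ := topMap_spec hR k
      (lift (fst (Red.Ga S) (totOf hR a)) (snd _ _) ≫ actHom (isBranched a.obj a.property))
    obtain ⟨s1, s2, s3⟩ := topMap_spec hR k (snd (Red.Ga S) (totOf hR a))
    obtain ⟨b1, b2, b3⟩ := lift_actHom (isBranched b.obj b.property) (hR := hR)
      (fst (Red.Ga S) (totOf hR a)) (snd _ _ ≫ topMap hR k)
    have hp : piU π ((snd _ _ ≫ topMap hR k) ≫ projOf hR b) =
        piU π (snd (Red.Ga S) (totOf hR a) ≫ projOf hR a) := by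
      rw [s1, ← Category.assoc, piU_comp]
      change (snd _ _ ≫ projOf hR a).left.appTop (k.hom.base.left.appTop (piT π b.obj.base)) = _
      rw [piT_comp]; rfl
    refine point_ext ?_ ?_ ?_
    · rw [t1, b1, s1, ← Category.assoc, a1, Category.assoc]
    · rw [t2, a2, b2, s2, hp]
    · rw [t3, a3, b3, s2, s3, hp]
  cart := by
    have w : topMap hR k ≫ projOf hR b = projOf hR a ≫ (Over.map hR).map k.hom.base := by
      have := (topMap_spec hR k (𝟙 _)).1
      rwa [Category.id_comp, Category.id_comp] at this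
    refine ⟨⟨w⟩, ⟨PullbackCone.IsLimit.mk w
      (fun c => (exists_top hR k c.snd c.fst c.condition).choose)
      (fun c => ?_) (fun c => (exists_top hR k c.snd c.fst c.condition).choose_spec.1)
      fun c m h1 h2 => ?_⟩⟩
    · obtain ⟨e1, e2, e3⟩ := (exists_top hR k c.snd c.fst c.condition).choose_spec
      obtain ⟨t1, t2, t3⟩ := topMap_spec hR k (exists_top hR k c.snd c.fst c.condition).choose
      refine point_ext ?_ (t2.trans e2) (t3.trans e3)
      rw [t1, ← Category.assoc, e1]
      exact c.condition.symm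
    · change m ≫ topMap hR k = c.fst at h1
      change m ≫ projOf hR a = c.snd at h2
      obtain ⟨e1, e2, e3⟩ := (exists_top hR k c.snd c.fst c.condition).choose_spec
      obtain ⟨t1, t2, t3⟩ := topMap_spec hR k m
      refine point_ext (h2.trans e1.symm) ?_ ?_
      · rw [e2, ← h1, t2]
      · rw [e3, ← h1, t3]
  wφ := toUnit_unique _ _

/-- The functor to the classifying stack of `G_a`. -/
def topFun : stPunc K R π hR ⥤ᵇ AlgSt.BG K (Red.Ga S) where
  toFunctor :=
    { obj := torOf hR
      map := fun k => homOf hR k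
      map_id := fun a => AlgSt.QuotObj.hom_ext
        (by exact (Over.map hR).map_id _) (by
          obtain ⟨h1, h2, h3⟩ := topMap_spec hR (𝟙 a) (𝟙 (totOf hR a))
          rw [Category.id_comp] at h1 h2 h3
          exact point_ext (h1.trans (by
            rw [Category.id_comp]
            exact (congrArg (projOf hR a ≫ ·) ((Over.map hR).map_id _)).trans
              ((Category.comp_id _).trans (Category.id_comp _).symm))) h2 h3)
      map_comp := fun k l => AlgSt.QuotObj.hom_ext
        (by exact (Over.map hR).map_comp _ _) (by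
          obtain ⟨h1, h2, h3⟩ := topMap_spec hR (k ≫ l) (𝟙 _)
          obtain ⟨k1, k2, k3⟩ := topMap_spec hR k (𝟙 _)
          obtain ⟨l1, l2, l3⟩ := topMap_spec hR l (topMap hR k)
          rw [Category.id_comp] at h1 h2 h3 k1 k2 k3
          change topMap hR (k ≫ l) = topMap hR k ≫ topMap hR l
          refine point_ext ?_ (h2.trans (k2.symm.trans l2.symm)) (h3.trans (k3.symm.trans l3.symm))
          rw [Category.id_comp] at h1 k1
          rw [h1, l1, ← Category.assoc, k1, Category.assoc, ← Functor.map_comp]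
          rfl) }
  w := rfl

end Groth.Agent.ThetaGa
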