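import Groth.Prelude.Def_ThetaS
import Groth.Prelude.Def_Red2
import Groth.Agent.RedPts.Basic
import Groth.Agent.ThetaGa.Alg
import Groth.Agent.StFib.QuotTriv
import Mathlib.AlgebraicGeometry.Sites.Fpqc

/-!
The additive torsor on a scheme over a ring `R` covered by two opens meeting inside `D(π)`, glued
from two trivial ones along the translation by `1 / π`.  It is an open subscheme of the base change
of the affine surface `z (z + 1) = π w`.
-/

set_option autoImplicit false
set_option linter.unusedVariables false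
set_option linter.unusedSectionVars false
set_option backward.isDefEq.respectTransparency false
set_option backward.isDefEq.respectTransparency.types false

universe u

open CategoryTheory CategoryTheory.Limits AlgebraicGeometry Opposite MonoidalCategory CartesianMonoidalCategory
  MonObj GrpObj ThetaS

noncomputable section

namespace Groth.Agent.ThetaGa

variable {R : Type u} [CommRing R] (π : R)

/-- The ring of the surface `z (z + 1) = π w`. -/
abbrev WRing : Type u :=
  MvPolynomial (Fin 2) R ⧸ Ideal.span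
    {(MvPolynomial.X 0 * (MvPolynomial.X 0 + 1) - MvPolynomial.C π * MvPolynomial.X 1 :
      MvPolynomial (Fin 2) R)}

/-- The coordinate `z`. -/
abbrev zW : WRing π := Ideal.Quotient.mk _ (MvPolynomial.X 0)

/-- The coordinate `w`. -/
abbrev wW : WRing π := Ideal.Quotient.mk _ (MvPolynomial.X 1)

/-- The element `π` as a function on a scheme over `R`. -/
def piT (T : Over (Spec (CommRingCat.of R))) : Γ(T.left, ⊤) :=
  T.hom.appTop ((Scheme.ΓSpecIso (CommRingCat.of R)).inv π)

theorem piT_comp {T' T : Over (Spec (CommRingCat.of R))} (k : T' ⟶ T) :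
    k.left.appTop (piT π T) = piT π T' := by
  change (k.left ≫ T.hom).appTop _ = _
  rw [Over.w]; rfl

variable {S : Scheme.{u}} (hR : Spec (CommRingCat.of R) ⟶ S) (T : Over (Spec (CommRingCat.of R)))
  (Ts Tt : T.left.Opens)

/-- `T ×_R W`. -/
abbrev TW : Over (Spec (CommRingCat.of R)) := T ⊗ CoactBr.sp R (WRing π)

/-- The function `z` on `T ×_R W`. -/
def zTW : Γ((TW π T).left, ⊤) :=
  (snd T (CoactBr.sp R (WRing π))).left.appTop ((Scheme.ΓSpecIso (CommRingCat.of (WRing π))).inv (zW π))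

/-- The function `w` on `T ×_R W`. -/
def wTW : Γ((TW π T).left, ⊤) :=
  (snd T (CoactBr.sp R (WRing π))).left.appTop ((Scheme.ΓSpecIso (CommRingCat.of (WRing π))).inv (wW π))

/-- The open of `T ×_R W` underlying the torsor. -/
def torsorOpen : (TW π T).left.Opens :=
  ((fst T (CoactBr.sp R (WRing π))).left ⁻¹ᵁ Ts ⊓
      ((TW π T).left.basicOpen (zTW π T + 1) ⊔ (TW π T).left.basicOpen (piT π (TW π T)))) ⊔
    ((fst T (CoactBr.sp R (WRing π))).left ⁻¹ᵁ Tt ⊓
      ((TW π T).left.basicOpen (zTW π T) ⊔ (TW π T).left.basicOpen (piT π (TW π T))))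

/-- The torsor, as a scheme over `S`. -/
def tot : Over S := Over.mk ((torsorOpen π T Ts Tt).ι ≫ (TW π T).hom ≫ hR)

/-- Its projection. -/
def proj : tot π hR T Ts Tt ⟶ (Over.map hR).obj T :=
  Over.homMk ((torsorOpen π T Ts Tt).ι ≫ (fst T (CoactBr.sp R (WRing π))).left) (by
    simp only [tot, Over.map_obj_hom, Over.mk_hom, Category.assoc]
    rw [← Category.assoc ((fst T (CoactBr.sp R (WRing π))).left), Over.w])

variable {π hR T Ts Tt} {U : Over S}

/-- The coordinate `z` of a point. -/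
def zc (x : U ⟶ tot π hR T Ts Tt) : Γ(U.left, ⊤) :=
  (x.left ≫ (torsorOpen π T Ts Tt).ι).appTop (zTW π T)

/-- The coordinate `w` of a point. -/
def wc (x : U ⟶ tot π hR T Ts Tt) : Γ(U.left, ⊤) :=
  (x.left ≫ (torsorOpen π T Ts Tt).ι).appTop (wTW π T)

variable (π) in
/-- The element `π` on the source of a point of `T`. -/
def piU (g : U ⟶ (Over.map hR).obj T) : Γ(U.left, ⊤) := g.left.appTop (piT π T)

theorem zc_comp {U' : Over S} (k : U' ⟶ U) (x : U ⟶ tot π hR T Ts Tt) :
    zc (k ≫ x) = k.left.appTop (zc x) := rfl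

theorem wc_comp {U' : Over S} (k : U' ⟶ U) (x : U ⟶ tot π hR T Ts Tt) :
    wc (k ≫ x) = k.left.appTop (wc x) := rfl

theorem piU_comp {U' : Over S} (k : U' ⟶ U) (g : U ⟶ (Over.map hR).obj T) :
    piU π (k ≫ g) = k.left.appTop (piU π g) := rfl

theorem ringEq : zW π * (zW π + 1) = algebraMap R (WRing π) π * wW π := by
  rw [IsScalarTower.algebraMap_apply R (MvPolynomial (Fin 2) R) (WRing π), Ideal.Quotient.algebraMap_eq,
    MvPolynomial.algebraMap_eq, ← map_one (Ideal.Quotient.mk _), ← map_add, ← map_mul, ← map_mul]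
  exact (Ideal.Quotient.mk_eq_mk_iff_sub_mem _ _).2 (Ideal.subset_span rfl)

theorem snd_const (r : R) :
    (snd T (CoactBr.sp R (WRing π))).left.appTop
      ((Scheme.ΓSpecIso (CommRingCat.of (WRing π))).inv (algebraMap R (WRing π) r)) =
        piT r (TW π T) := by
  have h : (Scheme.ΓSpecIso (CommRingCat.of (WRing π))).inv (algebraMap R (WRing π) r) =
      piT r (CoactBr.sp R (WRing π)) := by
    rw [piT, show (CoactBr.sp R (WRing π)).hom = Spec.map (CommRingCat.ofHom (algebraMap R (WRing π)))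
      from specOverSpec_over]
    exact congr($(Scheme.ΓSpecIso_inv_naturality (CommRingCat.ofHom (algebraMap R (WRing π)))) r)
  rw [h, piT_comp]

theorem rel_TW : zTW π T * (zTW π T + 1) = piT π (TW π T) * wTW π T := by
  rw [← snd_const (T := T) π, zTW, wTW]
  have h := congrArg (fun q => (snd T (CoactBr.sp R (WRing π))).left.appTop
    ((Scheme.ΓSpecIso (CommRingCat.of (WRing π))).inv q)) (ringEq (π := π))
  simpa only [map_mul, map_add, map_one] using h

theorem piU_proj (x : U ⟶ tot π hR T Ts Tt) :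
    piU π (x ≫ proj π hR T Ts Tt) = (x.left ≫ (torsorOpen π T Ts Tt).ι).appTop (piT π (TW π T)) := by
  rw [← piT_comp π (fst T (CoactBr.sp R (WRing π)))]
  rfl

theorem rel_point (x : U ⟶ tot π hR T Ts Tt) :
    zc x * (zc x + 1) = piU π (x ≫ proj π hR T Ts Tt) * wc x := by
  have h := congrArg ((x.left ≫ (torsorOpen π T Ts Tt).ι).appTop) (rel_TW (π := π) (T := T))
  rw [map_mul, map_mul, map_add, map_one] at h
  rw [piU_proj]
  exact h

theorem ok_point (hst : Ts ⊓ Tt ≤ T.left.basicOpen (piT π T)) (x : U ⟶ tot π hR T Ts Tt) :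
    ((x ≫ proj π hR T Ts Tt).left ⁻¹ᵁ Ts ≤
        U.left.basicOpen (zc x + 1) ⊔ U.left.basicOpen (piU π (x ≫ proj π hR T Ts Tt))) ∧
      ((x ≫ proj π hR T Ts Tt).left ⁻¹ᵁ Tt ≤
        U.left.basicOpen (zc x) ⊔ U.left.basicOpen (piU π (x ≫ proj π hR T Ts Tt))) := by
  let φ := x.left ≫ (torsorOpen π T Ts Tt).ι
  have hz1 : U.left.basicOpen (zc x + 1) = φ ⁻¹ᵁ (TW π T).left.basicOpen (zTW π T + 1) := by
    rw [Scheme.preimage_basicOpen_top, map_add, map_one]; rfl
  have hz : U.left.basicOpen (zc x) = φ ⁻¹ᵁ (TW π T).left.basicOpen (zTW π T) := by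
    rw [Scheme.preimage_basicOpen_top]; rfl
  have hp : U.left.basicOpen (piU π (x ≫ proj π hR T Ts Tt)) =
      φ ⁻¹ᵁ (TW π T).left.basicOpen (piT π (TW π T)) := by
    rw [Scheme.preimage_basicOpen_top, piU_proj]
  have hmem : ∀ p, φ p ∈ torsorOpen π T Ts Tt := fun p => (x.left p).2
  have hboth : ∀ p, (x ≫ proj π hR T Ts Tt).left p ∈ Ts → (x ≫ proj π hR T Ts Tt).left p ∈ Tt →
      p ∈ U.left.basicOpen (piU π (x ≫ proj π hR T Ts Tt)) := fun p h1 h2 => by
    rw [piU, ← Scheme.preimage_basicOpen_top]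
    exact hst ⟨h1, h2⟩
  constructor <;> intro p hp'
  · rcases hmem p with ⟨-, h⟩ | ⟨h', -⟩
    · rw [hz1, hp]; exact h
    · exact Or.inr (hboth p hp' h')
  · rcases hmem p with ⟨h', -⟩ | ⟨-, h⟩
    · exact Or.inr (hboth p h' hp')
    · rw [hz, hp]; exact h

theorem point_ext {x y : U ⟶ tot π hR T Ts Tt}
    (hg : x ≫ proj π hR T Ts Tt = y ≫ proj π hR T Ts Tt) (hz : zc x = zc y) (hw : wc x = wc y) :
    x = y := by
  apply Over.OverMorphism.ext
  rw [← cancel_mono (torsorOpen π T Ts Tt).ι]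
  let U₀ : Over (Spec (CommRingCat.of R)) :=
    Over.mk ((x.left ≫ (torsorOpen π T Ts Tt).ι) ≫ (TW π T).hom)
  let x₀ : U₀ ⟶ TW π T := Over.homMk (x.left ≫ (torsorOpen π T Ts Tt).ι) rfl
  have hfst : (x.left ≫ (torsorOpen π T Ts Tt).ι) ≫ (fst T (CoactBr.sp R (WRing π))).left =
      (y.left ≫ (torsorOpen π T Ts Tt).ι) ≫ (fst T (CoactBr.sp R (WRing π))).left := by
    rw [Category.assoc, Category.assoc]; exact congrArg Over.Hom.left hg
  let y₀ : U₀ ⟶ TW π T := Over.homMk (y.left ≫ (torsorOpen π T Ts Tt).ι) (by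
    change _ = (x.left ≫ (torsorOpen π T Ts Tt).ι) ≫ (TW π T).hom
    rw [← Over.w (fst T (CoactBr.sp R (WRing π))), ← Category.assoc, ← Category.assoc, hfst])
  suffices h : x₀ = y₀ from congrArg Over.Hom.left h
  refine CartesianMonoidalCategory.hom_ext _ _ (Over.OverMorphism.ext hfst) (Over.OverMorphism.ext ?_)
  have : IsAffine (CoactBr.sp R (WRing π)).left := isAffine_Spec _
  refine ext_of_isAffine ?_
  rw [← cancel_epi (Scheme.ΓSpecIso (CommRingCat.of (WRing π))).inv]
  refine CommRingCat.hom_ext ?_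
  apply Ideal.Quotient.ringHom_ext
  apply MvPolynomial.ringHom_ext
  · intro r
    have hc : ∀ z : U₀ ⟶ TW π T, (z ≫ snd T (CoactBr.sp R (WRing π))).left.appTop
        ((Scheme.ΓSpecIso (CommRingCat.of (WRing π))).inv (algebraMap R (WRing π) r)) = piT r U₀ :=
      fun z => by
        rw [Over.comp_left, Scheme.Hom.comp_appTop, CommRingCat.comp_apply, snd_const, piT_comp]
    exact (hc x₀).trans (hc y₀).symm
  · intro i
    fin_cases i
    · exact hz
    · exact hw

theorem exists_point (g : U ⟶ (Over.map hR).obj T) (z w : Γ(U.left, ⊤))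
    (hrel : z * (z + 1) = piU π g * w)
    (hs : g.left ⁻¹ᵁ Ts ≤ U.left.basicOpen (z + 1) ⊔ U.left.basicOpen (piU π g))
    (ht : g.left ⁻¹ᵁ Tt ≤ U.left.basicOpen z ⊔ U.left.basicOpen (piU π g))
    (hcov : ⊤ ≤ Ts ⊔ Tt) :
    ∃ x : U ⟶ tot π hR T Ts Tt, x ≫ proj π hR T Ts Tt = g ∧ zc x = z ∧ wc x = w := by
  let U₀ : Over (Spec (CommRingCat.of R)) := Over.mk (g.left ≫ T.hom)
  let g₀ : U₀ ⟶ T := Over.homMk g.left rfl
  let c : R →+* Γ(U.left, ⊤) :=
    ((Scheme.ΓSpecIso (CommRingCat.of R)).inv ≫ (g.left ≫ T.hom).appTop).hom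
  have hc : ∀ r, c r = piT r U₀ := fun r => rfl
  have hcπ : c π = piU π g := rfl
  let ψ : WRing π →+* Γ(U.left, ⊤) := Ideal.Quotient.lift _ (MvPolynomial.eval₂Hom c ![z, w])
    (fun p hp => by
      obtain ⟨q, rfl⟩ := Ideal.mem_span_singleton'.1 hp
      simp [hcπ, hrel])
  let v : U₀ ⟶ CoactBr.sp R (WRing π) :=
    Over.homMk (U.left.toSpecΓ ≫ Spec.map (CommRingCat.ofHom ψ)) (by
      rw [show (CoactBr.sp R (WRing π)).hom = Spec.map (CommRingCat.ofHom (algebraMap R (WRing π)))
        from specOverSpec_over, Category.assoc, ← Spec.map_comp]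
      refine ext_of_isAffine ?_
      rw [← cancel_epi (Scheme.ΓSpecIso (CommRingCat.of R)).inv, Scheme.Hom.comp_appTop,
        ← Category.assoc, ← Scheme.ΓSpecIso_inv_naturality, Category.assoc, Scheme.toSpecΓ_appTop,
        Iso.inv_hom_id, Category.comp_id]
      refine Eq.symm ?_
      ext r
      change c r = ψ (algebraMap R (WRing π) r)
      rw [IsScalarTower.algebraMap_apply R (MvPolynomial (Fin 2) R) (WRing π),
        Ideal.Quotient.algebraMap_eq, MvPolynomial.algebraMap_eq]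
      simp [ψ])
  let φ : U₀ ⟶ TW π T := lift g₀ v
  have hval : ∀ q, (φ ≫ snd T (CoactBr.sp R (WRing π))).left.appTop
      ((Scheme.ΓSpecIso (CommRingCat.of (WRing π))).inv q) = ψ q := fun q => by
    rw [lift_snd]
    change (U.left.toSpecΓ ≫ Spec.map (CommRingCat.ofHom ψ)).appTop _ = _
    rw [Scheme.Hom.comp_appTop, ← CommRingCat.comp_apply, ← Category.assoc,
      ← Scheme.ΓSpecIso_inv_naturality, Category.assoc, Scheme.toSpecΓ_appTop]
    simp
  have hz : φ.left.appTop (zTW π T) = z := (hval (zW π)).trans (by simp [ψ])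
  have hw : φ.left.appTop (wTW π T) = w := (hval (wW π)).trans (by simp [ψ])
  have hp : φ.left.appTop (piT π (TW π T)) = piU π g := piT_comp π φ
  have hfst : φ.left ≫ (fst T (CoactBr.sp R (WRing π))).left = g.left :=
    congrArg Over.Hom.left (lift_fst g₀ v)
  have hmem : ∀ p, φ.left p ∈ torsorOpen π T Ts Tt := fun p => by
    have hp' : (fst T (CoactBr.sp R (WRing π))).left (φ.left p) = g.left p := by
      rw [← Scheme.Hom.comp_apply, hfst]; rfl
    rcases hcov (show g.left p ∈ ⊤ from trivial) with h | h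
    · refine Or.inl ⟨(congrArg (· ∈ Ts) hp').mpr h, ?_⟩
      have := hs h
      have e : z + 1 = φ.left.appTop (zTW π T + 1) := by rw [map_add, map_one, hz]
      rw [e, ← hp] at this
      erw [← Scheme.preimage_basicOpen_top φ.left, ← Scheme.preimage_basicOpen_top φ.left] at this
      exact this
    · refine Or.inr ⟨(congrArg (· ∈ Tt) hp').mpr h, ?_⟩
      have := ht h
      rw [← hz, ← hp] at this
      erw [← Scheme.preimage_basicOpen_top φ.left, ← Scheme.preimage_basicOpen_top φ.left] at this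
      exact this
  let l := IsOpenImmersion.lift (torsorOpen π T Ts Tt).ι φ.left (by
    rintro _ ⟨p, rfl⟩
    rw [Scheme.Opens.range_ι]
    exact hmem p)
  have hl : l ≫ (torsorOpen π T Ts Tt).ι = φ.left := IsOpenImmersion.lift_fac _ _ _
  let x : U ⟶ tot π hR T Ts Tt := Over.homMk l (by
    change l ≫ _ ≫ _ ≫ hR = U.hom
    rw [← Category.assoc, ← Category.assoc, hl, Over.w φ, ← Over.w g]
    exact Category.assoc _ _ _)
  refine ⟨x, Over.OverMorphism.ext ?_, ?_, ?_⟩
  · change l ≫ _ ≫ _ = _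
    rw [← Category.assoc, hl, hfst]
  · change (l ≫ _).appTop _ = _
    rw [hl, hz]
  · change (l ≫ _).appTop _ = _
    rw [hl, hw]

/-- The standing conditions on the two opens. -/
structure IsBranched (π : R) (T : Over (Spec (CommRingCat.of R))) (Ts Tt : T.left.Opens) : Prop where
  cover : ⊤ ≤ Ts ⊔ Tt
  inter : Ts ⊓ Tt ≤ T.left.basicOpen (piT π T)

variable (hT : IsBranched π T Ts Tt)

local notation "G" => Red.Ga S

theorem basicOpen_translate (p a z : Γ(U.left, ⊤)) :
    U.left.basicOpen z ⊔ U.left.basicOpen p ≤ U.left.basicOpen (z + p * a) ⊔ U.left.basicOpen p := by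
  refine sup_le ?_ le_sup_right
  have h := Scheme.basicOpen_add_le U.left (z + p * a) (p * (-a))
  rw [show z + p * a + p * (-a) = z by ring, Scheme.basicOpen_mul] at h
  exact h.trans (sup_le_sup le_rfl inf_le_left)

include hT in
theorem exists_translate (a : U ⟶ G) (x : U ⟶ tot π hR T Ts Tt) :
    ∃ y : U ⟶ tot π hR T Ts Tt, y ≫ proj π hR T Ts Tt = x ≫ proj π hR T Ts Tt ∧
      zc y = zc x + piU π (x ≫ proj π hR T Ts Tt) * Red.gaFn a ∧
      wc y = wc x + Red.gaFn a * (2 * zc x + 1) +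
        piU π (x ≫ proj π hR T Ts Tt) * Red.gaFn a ^ 2 := by
  obtain ⟨h1, h2⟩ := ok_point hT.inter x
  refine exists_point _ _ _ ?_ ?_ ?_ hT.cover
  · linear_combination rel_point x
  · refine h1.trans ((basicOpen_translate _ (Red.gaFn a) (zc x + 1)).trans_eq ?_)
    congr 2
    ring
  · exact h2.trans (basicOpen_translate _ (Red.gaFn a) (zc x))

/-- The action morphism. -/
def actHom : G ⊗ tot π hR T Ts Tt ⟶ tot π hR T Ts Tt :=
  (exists_translate hT (fst G (tot π hR T Ts Tt)) (snd G (tot π hR T Ts Tt))).choose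

theorem lift_actHom (a : U ⟶ G) (x : U ⟶ tot π hR T Ts Tt) :
    (lift a x ≫ actHom hT) ≫ proj π hR T Ts Tt = x ≫ proj π hR T Ts Tt ∧
      zc (lift a x ≫ actHom hT) = zc x + piU π (x ≫ proj π hR T Ts Tt) * Red.gaFn a ∧
      wc (lift a x ≫ actHom hT) = wc x + Red.gaFn a * (2 * zc x + 1) +
        piU π (x ≫ proj π hR T Ts Tt) * Red.gaFn a ^ 2 := by
  obtain ⟨h1, h2, h3⟩ :=
    (exists_translate hT (fst G (tot π hR T Ts Tt)) (snd G (tot π hR T Ts Tt))).choose_spec
  let L := lift a x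
  have ea : Red.gaFn a = L.left.appTop (Red.gaFn (fst G (tot π hR T Ts Tt))) := by
    rw [← RedPts.ga_comp, lift_fst]
  have ez : zc x = L.left.appTop (zc (snd G (tot π hR T Ts Tt))) := by rw [← zc_comp, lift_snd]
  have ew : wc x = L.left.appTop (wc (snd G (tot π hR T Ts Tt))) := by rw [← wc_comp, lift_snd]
  have ep : piU π (x ≫ proj π hR T Ts Tt) =
      L.left.appTop (piU π (snd G (tot π hR T Ts Tt) ≫ proj π hR T Ts Tt)) := by
    rw [← piU_comp, lift_snd_assoc]
  refine ⟨?_, ?_, ?_⟩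
  · rw [actHom, Category.assoc, h1, lift_snd_assoc]
  · rw [actHom, zc_comp, h2, map_add, map_mul, ← ea, ← ez, ← ep]
  · rw [actHom, wc_comp, h3, map_add, map_add, map_mul, map_mul, map_pow, map_add, map_mul, map_one,
      map_ofNat, ← ea, ← ez, ← ew, ← ep]

theorem gaFn_one : Red.gaFn (1 : U ⟶ G) = 0 := by
  have h := RedPts.ga_mul (1 : U ⟶ G) 1
  have e : (1 : U ⟶ G) * 1 = 1 :=
    letI : Monoid (U ⟶ G) := Hom.monoid
    mul_one (M := U ⟶ G) 1
  rw [e] at h
  exact left_eq_add.1 h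

theorem act_comp_one (x : U ⟶ tot π hR T Ts Tt) : lift (1 : U ⟶ G) x ≫ actHom hT = x := by
  obtain ⟨h1, h2, h3⟩ := lift_actHom hT (1 : U ⟶ G) x
  refine point_ext h1 ?_ ?_
  · rw [h2, gaFn_one]; ring
  · rw [h3, gaFn_one]; ring

theorem act_comp_mul (a b : U ⟶ G) (x : U ⟶ tot π hR T Ts Tt) :
    lift (a * b) x ≫ actHom hT = lift a (lift b x ≫ actHom hT) ≫ actHom hT := by
  obtain ⟨h1, h2, h3⟩ := lift_actHom hT (a * b) x
  obtain ⟨b1, b2, b3⟩ := lift_actHom hT b x
  obtain ⟨a1, a2, a3⟩ := lift_actHom hT a (lift b x ≫ actHom hT)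
  refine point_ext (h1.trans (b1.symm.trans a1.symm)) ?_ ?_
  · rw [h2, a2, b1, b2, RedPts.ga_mul]; ring
  · rw [h3, a3, b1, b2, b3, RedPts.ga_mul]; ring

/-- The action. -/
def torsorAction : AlgGrp.Action G (tot π hR T Ts Tt) where
  act := actHom hT
  one_act := by
    have e : (η[G] ▷ tot π hR T Ts Tt) =
        lift (1 : 𝟙_ (Over S) ⊗ tot π hR T Ts Tt ⟶ G) (snd _ _) := by
      apply CartesianMonoidalCategory.hom_ext
      · rw [whiskerRight_fst, lift_fst, toUnit_unique (fst _ _) (toUnit _), ← Hom.one_def]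
      · rw [whiskerRight_snd, lift_snd]
    rw [e, act_comp_one, leftUnitor_hom]
  mul_act := by
    have e1 : (μ[G] ▷ tot π hR T Ts Tt) =
        lift ((fst (G ⊗ G) (tot π hR T Ts Tt) ≫ fst G G) * (fst (G ⊗ G) (tot π hR T Ts Tt) ≫ snd G G))
          (snd (G ⊗ G) (tot π hR T Ts Tt)) := by
      apply CartesianMonoidalCategory.hom_ext
      · rw [whiskerRight_fst, lift_fst, Hom.mul_def, ← comp_lift, lift_fst_snd, Category.comp_id]
      · rw [whiskerRight_snd, lift_snd]
    have e2 : (α_ G G (tot π hR T Ts Tt)).hom ≫ (G ◁ actHom hT) =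
        lift (fst (G ⊗ G) (tot π hR T Ts Tt) ≫ fst G G)
          (lift (fst (G ⊗ G) (tot π hR T Ts Tt) ≫ snd G G) (snd (G ⊗ G) (tot π hR T Ts Tt)) ≫
            actHom hT) := by
      apply CartesianMonoidalCategory.hom_ext
      · rw [Category.assoc, whiskerLeft_fst, associator_hom_fst, lift_fst]
      · rw [Category.assoc, whiskerLeft_snd, lift_snd, ← Category.assoc]
        congr 1
        apply CartesianMonoidalCategory.hom_ext <;> simp
    rw [e1, act_comp_mul, reassoc_of% e2]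

theorem exists_unique_diff (x y : U ⟶ tot π hR T Ts Tt)
    (h : x ≫ proj π hR T Ts Tt = y ≫ proj π hR T Ts Tt) :
    ∃! a : U ⟶ G, lift a y ≫ actHom hT = x := by
  let p := piU π (x ≫ proj π hR T Ts Tt)
  obtain ⟨xs, xt⟩ := ok_point hT.inter x
  obtain ⟨ys, yt⟩ := ok_point hT.inter y
  rw [← h] at ys yt
  have hrx := rel_point x
  have hry := rel_point y
  rw [← h] at hry
  have hvan : ∀ z w : Γ(U.left, ⊤), z * (z + 1) = p * w → ∀ τ,
      τ ∈ U.left.basicOpen (z + 1) → τ ∈ U.left.basicOpen z → τ ∈ U.left.basicOpen p := by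
    intro z w hzw τ h1 h2
    have : τ ∈ U.left.basicOpen (z * (z + 1)) := by
      rw [Scheme.basicOpen_mul]; exact ⟨h2, h1⟩
    rw [hzw, Scheme.basicOpen_mul] at this
    exact this.1
  have hcov : U.left.basicOpen p ⊔ U.left.basicOpen (zc x + zc y + 1) = ⊤ := by
    refine eq_top_iff.2 fun τ _ => ?_
    by_cases hτ : τ ∈ U.left.basicOpen p
    · exact Or.inl hτ
    refine Or.inr ?_
    have hone : τ ∈ U.left.basicOpen (1 : Γ(U.left, ⊤)) := by
      rw [Scheme.basicOpen_of_isUnit _ isUnit_one]; trivial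
    rcases hT.cover (show (x ≫ proj π hR T Ts Tt).left τ ∈ ⊤ from trivial) with hg | hg
    · have hx := (xs hg).resolve_right hτ
      have hy := (ys hg).resolve_right hτ
      have e : (1 : Γ(U.left, ⊤)) = (zc x + zc y + 1) + (-zc x + -zc y) := by ring
      rw [e] at hone
      rcases Scheme.basicOpen_add_le _ _ _ hone with h1 | h1
      · exact h1
      · refine absurd ?_ hτ
        rcases Scheme.basicOpen_add_le _ _ _ h1 with h2 | h2
        · exact hvan _ _ hrx τ hx (by rwa [neg_eq_neg_one_mul, Scheme.basicOpen_mul,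
            Scheme.basicOpen_of_isUnit _ isUnit_one.neg, top_inf_eq] at h2)
        · exact hvan _ _ hry τ hy (by rwa [neg_eq_neg_one_mul, Scheme.basicOpen_mul,
            Scheme.basicOpen_of_isUnit _ isUnit_one.neg, top_inf_eq] at h2)
    · have hx := (xt hg).resolve_right hτ
      have hy := (yt hg).resolve_right hτ
      have e : (1 : Γ(U.left, ⊤)) = -(zc x + zc y + 1) + ((zc x + 1) + (zc y + 1)) := by ring
      rw [e] at hone
      rcases Scheme.basicOpen_add_le _ _ _ hone with h1 | h1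
      · rwa [neg_eq_neg_one_mul, Scheme.basicOpen_mul,
            Scheme.basicOpen_of_isUnit _ isUnit_one.neg, top_inf_eq] at h1
      · refine absurd ?_ hτ
        rcases Scheme.basicOpen_add_le _ _ _ h1 with h2 | h2
        · exact hvan _ _ hrx τ h2 hx
        · exact hvan _ _ hry τ h2 hy
  obtain ⟨a, ⟨ha₁, ha₂⟩, hau⟩ := existsUnique_div (p := zc x - zc y) (q := wc x - wc y) hcov
    (by linear_combination hrx - hry)
  obtain ⟨a', rfl⟩ := RedPts.ga_surjective a
  obtain ⟨e1, e2, e3⟩ := lift_actHom hT a' y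
  rw [← h] at e2 e3
  refine ⟨a', point_ext (e1.trans h.symm) ?_ ?_, fun b hb => RedPts.ga_injective (hau _ ⟨?_, ?_⟩)⟩
  · rw [e2]; linear_combination ha₁
  · rw [e3]; linear_combination ha₂ + Red.gaFn a' * (ha₁)
  all_goals
    obtain ⟨f1, f2, f3⟩ := lift_actHom hT b y
    rw [hb, ← h] at f2 f3
  · linear_combination -f2
  · linear_combination -f3 + Red.gaFn b * f2

theorem isPullback_act :
    IsPullback (torsorAction hT).act (snd G (tot π hR T Ts Tt)) (proj π hR T Ts Tt)
      (proj π hR T Ts Tt) := by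
  have w : actHom hT ≫ proj π hR T Ts Tt =
      snd G (tot π hR T Ts Tt) ≫ proj π hR T Ts Tt := by
    have := (lift_actHom hT (fst G (tot π hR T Ts Tt)) (snd G (tot π hR T Ts Tt))).1
    rwa [lift_fst_snd, Category.id_comp] at this
  refine ⟨⟨w⟩, ⟨PullbackCone.IsLimit.mk w
    (fun c => lift (exists_unique_diff hT c.fst c.snd c.condition).exists.choose c.snd)
    (fun c => (exists_unique_diff hT c.fst c.snd c.condition).exists.choose_spec)
    (fun c => lift_snd _ _) fun c m h1 h2 => ?_⟩⟩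
  change m ≫ actHom hT = c.fst at h1
  apply CartesianMonoidalCategory.hom_ext
  · rw [lift_fst]
    refine (exists_unique_diff hT c.fst c.snd c.condition).unique ?_
      (exists_unique_diff hT c.fst c.snd c.condition).exists.choose_spec
    rw [← h2, ← comp_lift_assoc, lift_fst_snd, Category.id_comp, h1]
  · rw [lift_snd, h2]

include hT in
theorem exists_section_branch :
    (∀ (g : U ⟶ (Over.map hR).obj T), (∀ p, g.left p ∈ Ts) →
        ∃ x : U ⟶ tot π hR T Ts Tt, x ≫ proj π hR T Ts Tt = g ∧ zc x = 0 ∧ wc x = 0) ∧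
      ∀ (g : U ⟶ (Over.map hR).obj T), (∀ p, g.left p ∈ Tt) →
        ∃ x : U ⟶ tot π hR T Ts Tt, x ≫ proj π hR T Ts Tt = g ∧ zc x = -1 ∧ wc x = 0 := by
  have hp : ∀ (g : U ⟶ (Over.map hR).obj T) (τ : U.left), g.left τ ∈ Ts → g.left τ ∈ Tt →
      τ ∈ U.left.basicOpen (piU π g) := fun g τ h1 h2 => by
    rw [piU, ← Scheme.preimage_basicOpen_top]
    exact hT.inter ⟨h1, h2⟩
  refine ⟨fun g hg => exists_point g 0 0 (by ring) ?_ (fun τ hτ => Or.inr (hp g τ (hg τ) hτ)) hT.cover,
    fun g hg => exists_point g (-1) 0 (by ring) (fun τ hτ => Or.inr (hp g τ hτ (hg τ))) ?_ hT.cover⟩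
  · rw [zero_add, Scheme.basicOpen_of_isUnit _ isUnit_one, top_sup_eq]
    exact le_top
  · rw [Scheme.basicOpen_of_isUnit _ isUnit_one.neg, top_sup_eq]
    exact le_top

include hT in
theorem locallyTrivial :
    NonAbH1.IsLocallyTrivialFor Scheme.fppfPrecoverage
      (Over.mk (proj π hR T Ts Tt).left : Over T.left) := by
  let O : Bool → T.left.Opens := fun b => if b then Ts else Tt
  refine ⟨Presieve.ofArrows (fun b => (O b : Scheme.{u})) (fun b => (O b).ι), ?_, ?_⟩
  · rw [Scheme.fppfPrecoverage, Scheme.ofArrows_mem_precoverage_iff]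
    refine ⟨fun x => ?_, fun b => ⟨inferInstance, inferInstance⟩⟩
    rcases hT.cover (show x ∈ ⊤ from trivial) with h | h
    · exact ⟨true, ⟨⟨x, h⟩, rfl⟩⟩
    · exact ⟨false, ⟨⟨x, h⟩, rfl⟩⟩
  · rintro V f ⟨b⟩
    let V' : Over S := Over.mk ((O b).ι ≫ T.hom ≫ hR)
    let g : V' ⟶ (Over.map hR).obj T := Over.homMk (O b).ι rfl
    cases b
    · obtain ⟨x, hx, -⟩ := (exists_section_branch (U := V') hT).2 g (fun p => p.2)
      exact ⟨x.left, congrArg Over.Hom.left hx⟩
    · obtain ⟨x, hx, -⟩ := (exists_section_branch (U := V') hT).1 g (fun p => p.2)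
      exact ⟨x.left, congrArg Over.Hom.left hx⟩

/-- The torsor as an object of the classifying stack. -/
def torsorObj : AlgSt.QuotObj Scheme.fppfPrecoverage G (AlgSt.trivAction G) where
  base := (Over.map hR).obj T
  P := tot π hR T Ts Tt
  act := torsorAction hT
  π := proj π hR T Ts Tt
  cart := isPullback_act hT
  loc := locallyTrivial hT
  φ := toUnit _
  eqv := toUnit_unique _ _

end Groth.Agent.ThetaGa
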