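import Groth.Agent.ThetaGa.Functor
import Groth.Agent.ThetaStack.Quot
import Groth.Agent.ThetaStack.Main
import Groth.Agent.StFib.QuotDesc
import Groth.Agent.StFib.Basic

/-!
A lift of the additive torsor to the whole two-branched stack gives a torsor on the affine chart
with sections over the two branches differing by `1 / π`.
-/

set_option autoImplicit false
set_option linter.unusedVariables false
set_option linter.unusedSectionVars false
set_option backward.isDefEq.respectTransparency false
set_option backward.isDefEq.respectTransparency.types false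

universe u

open CategoryTheory CategoryTheory.Limits AlgebraicGeometry Opposite MonoidalCategory CartesianMonoidalCategory
  MonObj GrpObj ThetaS FibCat

noncomputable section

namespace Groth.Agent.ThetaGa

variable {R : Type u} [CommRing R] (π : R) {S : Scheme.{u}} (hR : Spec (CommRingCat.of R) ⟶ S)

local notation "K" => Scheme.fppfPrecoverage

/-- The chart. -/
abbrev chart : (ST K R π hR).obj :=
  (AlgSt.quotMap K (ThetaS.Gm R) (stAction R π)).obj ⟨STSch R π, ⟨𝟙 _⟩⟩

/-- An open subscheme of the chart. -/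
abbrev openPt (D : (STSch R π).left.Opens) : (AlgSt.ofSch (STSch R π)).obj :=
  ⟨Over.mk (D.ι ≫ (STSch R π).hom), ⟨Over.homMk D.ι rfl⟩⟩

/-- The complement of the node. -/
abbrev puncOpen : (STSch R π).left.Opens :=
  (STSch R π).left.basicOpen (stFn (sFn R π)) ⊔ (STSch R π).left.basicOpen (stFn (tFn R π))

theorem missesNode_openPt {D : (STSch R π).left.Opens} (hD : D ≤ puncOpen π) :
    MissesNode ((AlgSt.quotMap K (ThetaS.Gm R) (stAction R π)).obj (openPt π D)) :=
  (ThetaStack.inOpen_iff_eq_top _ _ _).2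
    ((ThetaStack.inOpen_quotMap_iff (ThetaStack.st_invariant π) _).2 fun x => hD x.2)

/-- The object on an open subscheme. -/
abbrev openObj (D : (STSch R π).left.Opens) (hD : D ≤ puncOpen π) : (stPunc K R π hR).obj :=
  ⟨(AlgSt.quotMap K (ThetaS.Gm R) (stAction R π)).obj (openPt π D), missesNode_openPt π hD⟩

theorem mem_branchSet_openObj {D : (STSch R π).left.Opens} (hD : D ≤ puncOpen π) {f : STRing R π}
    (hf : f = sFn R π ∨ f = tFn R π) (τ : (openPt π D).base.left) :
    τ ∈ branchSet (openObj π hR D hD).obj f ↔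
      D.ι τ ∈ (STSch R π).left.basicOpen (stFn f) := by
  obtain ⟨p, hp⟩ := exists_over (openObj π hR D hD).obj τ
  have hp' : (snd (ThetaS.Gm R) (openPt π D).base).left p = τ := hp
  rw [← hp, mem_branchSet_iff _ hf]
  change ((ThetaS.Gm R ◁ (openPt π D).sec.down) ≫ (stAction R π).act).left p ∈ _ ↔ _
  rw [Over.comp_left, Scheme.Hom.comp_apply, st_invariant_branch π f hf, ← Scheme.Hom.comp_apply,
    ← Over.comp_left, whiskerLeft_snd, Over.comp_left, Scheme.Hom.comp_apply]
  rfl

/-- An open subscheme of the chart into the chart. -/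
abbrev toChart (D : (STSch R π).left.Opens) :
    (AlgSt.quotMap K (ThetaS.Gm R) (stAction R π)).obj (openPt π D) ⟶ chart π hR :=
  (AlgSt.quotMap K (ThetaS.Gm R) (stAction R π)).map
    (⟨Over.homMk D.ι rfl, congrArg ULift.up (Category.comp_id (Over.homMk D.ι rfl :
      Over.mk (D.ι ≫ (STSch R π).hom) ⟶ STSch R π))⟩ : openPt π D ⟶ ⟨STSch R π, ⟨𝟙 _⟩⟩)

/-- Inclusion of open subschemes. -/
abbrev openLE {D D' : (STSch R π).left.Opens} (h : D' ≤ D) (hD : D ≤ puncOpen π) :
    openObj π hR D' (h.trans hD) ⟶ openObj π hR D hD :=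
  ObjectProperty.homMk ((AlgSt.quotMap K (ThetaS.Gm R) (stAction R π)).map
    (⟨Over.homMk ((STSch R π).left.homOfLE h) (by
        change _ ≫ D.ι ≫ _ = D'.ι ≫ _
        rw [← Category.assoc, Scheme.homOfLE_ι]),
      congrArg ULift.up (Over.OverMorphism.ext (Scheme.homOfLE_ι _ h))⟩ : openPt π D' ⟶ openPt π D))

theorem openLE_toChart {D D' : (STSch R π).left.Opens} (h : D' ≤ D) (hD : D ≤ puncOpen π) :
    (openLE π hR h hD).hom ≫ toChart π hR D = toChart π hR D' := by
  change _ ≫ (AlgSt.quotMap K (ThetaS.Gm R) (stAction R π)).map _ = _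
  rw [ObjectProperty.homMk_hom, ← Functor.map_comp]
  exact congrArg _ (Stk.EltObj.hom_ext (Over.OverMorphism.ext (Scheme.homOfLE_ι _ h)))

theorem act_injective {G P T U : Over S} [GrpObj G] {act : G ⊗ P ⟶ P} {p : P ⟶ T}
    (hc : IsPullback act (snd G P) p p) {g g' : U ⟶ G} {y : U ⟶ P}
    (h : lift g y ≫ act = lift g' y ≫ act) : g = g' := by
  have := hc.hom_ext h (by rw [lift_snd, lift_snd])
  simpa using congrArg (· ≫ fst G P) this

/-- A torsor on the chart with two partial sections differing by `1 / π`. -/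
structure SplitData where
  /-- the torsor -/
  P : AlgSt.QuotObj K (Red.Ga S) (AlgSt.trivAction (Red.Ga S))
  /-- it lives on the chart -/
  e : P.base = (Over.map hR).obj (STSch R π)
  /-- the section where `s` is invertible -/
  σS : (Over.map hR).obj (openPt π ((STSch R π).left.basicOpen (stFn (sFn R π)))).base ⟶ P.P
  /-- the section where `t` is invertible -/
  σT : (Over.map hR).obj (openPt π ((STSch R π).left.basicOpen (stFn (tFn R π)))).base ⟶ P.P
  hS : σS ≫ P.π ≫ eqToHom e = (Over.map hR).map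
    (openPt π ((STSch R π).left.basicOpen (stFn (sFn R π)))).sec.down
  hT : σT ≫ P.π ≫ eqToHom e = (Over.map hR).map
    (openPt π ((STSch R π).left.basicOpen (stFn (tFn R π)))).sec.down
  /-- the difference of the two sections -/
  diff : (Over.map hR).obj (openPt π ((STSch R π).left.basicOpen (stFn (sFn R π)) ⊓
    (STSch R π).left.basicOpen (stFn (tFn R π)))).base ⟶ Red.Ga S
  hdiff : piU π (𝟙 ((Over.map hR).obj (openPt π ((STSch R π).left.basicOpen (stFn (sFn R π)) ⊓
    (STSch R π).left.basicOpen (stFn (tFn R π)))).base)) * Red.gaFn diff = -1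
  hrel : lift diff ((Over.map hR).map (openLE π hR inf_le_left le_sup_left).hom.base ≫ σS) ≫
    P.act.act = (Over.map hR).map (openLE π hR inf_le_right le_sup_right).hom.base ≫ σT

theorem nonempty_splitData
    (hlift : LiftSq.Lifts (stIncl K R π hR) (toSelf (AlgSt.BG K (Red.Ga S)))) :
    Nonempty (SplitData π hR) := by
  let sq : LiftSq.Sq (stIncl K R π hR) (toSelf (AlgSt.BG K (Red.Ga S))) :=
    LiftSq.Sq.mk (topFun hR) (toSelf (ST K R π hR)) (eqToIso rfl)
  obtain ⟨d⟩ := hlift sq
  let P : AlgSt.QuotObj K (Red.Ga S) (AlgSt.trivAction (Red.Ga S)) := d.fn.obj (chart π hR)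
  have e : P.base = (Over.map hR).obj (STSch R π) := d.fn.w_obj (chart π hR)
  let m : ∀ a : (stPunc K R π hR).obj, (a.obj ⟶ chart π hR) → (torOf hR a ⟶ P) := fun a k =>
    (StFib.isoApp d.isoTop a).inv ≫ d.fn.map k
  have hm : ∀ a k, (m a k).top ≫ P.π ≫ eqToHom e =
      projOf hR a ≫ (Over.map hR).map k.base := fun a k => by
    have hb : (m a k).base ≫ eqToHom e = (Over.map hR).map k.base := by
      have h1 := StFib.w_map d.fn k
      obtain ⟨h2, h3⟩ := StFib.vert_isoApp_inv d.isoTop a
      change ((StFib.isoApp d.isoTop a).inv.base ≫ (d.fn.map k).base) ≫ _ = _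
      rw [show (StFib.isoApp d.isoTop a).inv.base = eqToHom h2 from h3,
        show (d.fn.map k).base = _ from h1]
      simp only [Category.assoc, eqToHom_trans, eqToHom_refl, Category.comp_id, eqToHom_trans_assoc,
        Category.id_comp]
      rfl
    rw [← Category.assoc, (m a k).cart.w, Category.assoc, hb]
    rfl
  have hnat : ∀ {a b : (stPunc K R π hR).obj} (l : a ⟶ b) (k : b.obj ⟶ chart π hR),
      m a (l.hom ≫ k) = homOf hR l ≫ m b k := fun {a b} l k => by
    have := d.isoTop.inv.toNatTrans.naturality l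
    change homOf hR l ≫ (StFib.isoApp d.isoTop b).inv =
      (StFib.isoApp d.isoTop a).inv ≫ d.fn.map l.hom at this
    simp only [m]
    rw [Functor.map_comp, reassoc_of% this]
  let Ds := (STSch R π).left.basicOpen (stFn (sFn R π))
  let Dt := (STSch R π).left.basicOpen (stFn (tFn R π))
  let aS := openObj π hR Ds le_sup_left
  let aT := openObj π hR Dt le_sup_right
  let aP := openObj π hR (Ds ⊓ Dt) (inf_le_left.trans le_sup_left)
  let lS : aP ⟶ aS := openLE π hR inf_le_left le_sup_left
  let lT : aP ⟶ aT := openLE π hR inf_le_right le_sup_right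
  obtain ⟨xS, xS1, xS2, xS3⟩ := (exists_section_branch (isBranched aS.obj aS.property) (hR := hR)).1
    (𝟙 _) fun p => (mem_branchSet_openObj π hR le_sup_left (Or.inl rfl) p).2 p.2
  obtain ⟨xT, xT1, xT2, xT3⟩ := (exists_section_branch (isBranched aT.obj aT.property) (hR := hR)).2
    (𝟙 _) fun p => (mem_branchSet_openObj π hR le_sup_right (Or.inr rfl) p).2 p.2
  obtain ⟨y0, y01, y02, y03⟩ := (exists_section_branch (isBranched aP.obj aP.property) (hR := hR)).1
    (𝟙 _) fun p => (mem_branchSet_openObj π hR _ (Or.inl rfl) p).2 p.2.1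
  obtain ⟨y1, y11, y12, y13⟩ := (exists_section_branch (isBranched aP.obj aP.property) (hR := hR)).2
    (𝟙 _) fun p => (mem_branchSet_openObj π hR _ (Or.inr rfl) p).2 p.2.2
  obtain ⟨a, ha, -⟩ := exists_unique_diff (isBranched aP.obj aP.property) y1 y0 (y11.trans y01.symm)
  have hπa : piU π (𝟙 ((Over.map hR).obj aP.obj.base)) * Red.gaFn a = -1 := by
    obtain ⟨-, e2, -⟩ := lift_actHom (isBranched aP.obj aP.property) a y0
    rw [ha, y12, y02, zero_add, y01] at e2
    exact e2.symm
  have hxS : (Over.map hR).map lS.hom.base ≫ xS = y0 ≫ topMap hR lS := by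
    obtain ⟨t1, t2, t3⟩ := topMap_spec hR lS y0
    refine point_ext ?_ ?_ ?_
    · rw [Category.assoc, t1, ← Category.assoc y0, y01, Category.id_comp]
      exact (congrArg (_ ≫ ·) xS1).trans (Category.comp_id _)
    · rw [t2, y02, zc_comp, xS2, map_zero]
    · rw [t3, y03, wc_comp, xS3, map_zero]
  have hxT : (Over.map hR).map lT.hom.base ≫ xT = y1 ≫ topMap hR lT := by
    obtain ⟨t1, t2, t3⟩ := topMap_spec hR lT y1
    refine point_ext ?_ ?_ ?_
    · rw [Category.assoc, t1, ← Category.assoc y1, y11, Category.id_comp]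
      exact (congrArg (_ ≫ ·) xT1).trans (Category.comp_id _)
    · rw [t2, y12, zc_comp, xT2, map_neg, map_one]
    · rw [t3, y13, wc_comp, xT3, map_zero]
  refine ⟨{
    P := P
    e := e
    σS := xS ≫ (m aS (toChart π hR Ds)).top
    σT := xT ≫ (m aT (toChart π hR Dt)).top
    hS := by rw [Category.assoc, hm, ← Category.assoc, xS1]; exact Category.id_comp _
    hT := by rw [Category.assoc, hm, ← Category.assoc, xT1]; exact Category.id_comp _
    diff := a
    hdiff := hπa
    hrel := ?_ }⟩
  have eS : homOf hR lS ≫ m aS (toChart π hR Ds) = m aP (toChart π hR (Ds ⊓ Dt)) := by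
    rw [← hnat, openLE_toChart]
  have eT : homOf hR lT ≫ m aT (toChart π hR Dt) = m aP (toChart π hR (Ds ⊓ Dt)) := by
    rw [← hnat, openLE_toChart]
  have eS' : (Over.map hR).map lS.hom.base ≫ xS ≫ (m aS (toChart π hR Ds)).top =
      y0 ≫ (m aP (toChart π hR (Ds ⊓ Dt))).top := by
    rw [← Category.assoc, hxS, Category.assoc, ← eS]; rfl
  have eT' : (Over.map hR).map lT.hom.base ≫ xT ≫ (m aT (toChart π hR Dt)).top =
      y1 ≫ (m aP (toChart π hR (Ds ⊓ Dt))).top := by
    rw [← Category.assoc, hxT, Category.assoc, ← eT]; rfl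
  rw [eS', eT', ← ha, Category.assoc]
  refine Eq.trans ?_ (congrArg (lift a y0 ≫ ·) (m aP (toChart π hR (Ds ⊓ Dt))).eqv).symm
  exact (lift_whiskerLeft_assoc _ _ _ _).symm

end Groth.Agent.ThetaGa
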